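import Groth.Agent.S5322
import Groth.Agent.S5323
import Groth.Agent.SGA3cLib.BCPoints
import Groth.Agent.SGA3cLib.ArtinComponent

/-!
# The neutral components on field-valued points
-/

set_option autoImplicit false
set_option maxHeartbeats 1600000
set_option backward.isDefEq.respectTransparency.types false
set_option linter.style.haveILetI false

universe u

open CategoryTheory Limits AlgebraicGeometry MonoidalCategory CartesianMonoidalCategory MonObj GrpObj

namespace Groth.Agent.H8Grp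

variable {S : Scheme.{u}} {G : Over S}

/-- The test object of a field-valued point of the base. -/
noncomputable abbrev fld {K : Type u} [Field K] (ω : Spec (CommRingCat.of K) ⟶ S) : Over S :=
  (Over.map ω).obj (𝟙_ (Over (Spec (CommRingCat.of K))))

variable {K : Type u} [Field K] {ω : Spec (CommRingCat.of K) ⟶ S}

/-- The point of `G` underlying a field-valued point. -/
noncomputable def ptv (σ : fld ω ⟶ G) : G.left := σ.left.base (IsLocalRing.closedPoint K)

/-- The rational point of the base change. -/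
noncomputable def ratv (σ : fld ω ⟶ G) : (Red.bc ω G).left :=
  (SGA3cLib.BCPoints.pt ω G _ σ).left.base (IsLocalRing.closedPoint K)

theorem pt_left_fst (σ : fld ω ⟶ G) :
    (SGA3cLib.BCPoints.pt ω G (𝟙_ (Over (Spec (CommRingCat.of K)))) σ).left ≫ pullback.fst G.hom ω = σ.left := by
  simp [SGA3cLib.BCPoints.pt, Over.mapPullbackAdj]
  exact pullback.lift_fst _ _ _

theorem fst_ratv (σ : fld ω ⟶ G) : (pullback.fst G.hom ω).base (ratv σ) = ptv σ :=
  congrArg (fun k => k.base (IsLocalRing.closedPoint K)) (pt_left_fst σ)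

/-- The point lies over the image of `ω`. -/
theorem hom_ptv (σ : fld ω ⟶ G) : G.hom.base (ptv σ) = ω.base (IsLocalRing.closedPoint K) := by
  have h := congrArg (fun k => k.base (IsLocalRing.closedPoint K)) (Over.w σ)
  exact h

/-- Every point is the underlying point of a field-valued point. -/
theorem exists_ptv (x : G.left) :
    ∃ σ : fld (G.left.fromSpecResidueField x ≫ G.hom) ⟶ G, ptv σ = x :=
  ⟨Over.homMk (G.left.fromSpecResidueField x) (Category.id_comp _).symm,
    Scheme.fromSpecResidueField_apply x _⟩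

variable [GrpObj G]

theorem ratv_mul (σ τ : fld ω ⟶ G) : ratv (σ * τ) =
    (SGA3cLib.BCPoints.pt ω G _ σ * SGA3cLib.BCPoints.pt ω G _ τ).left.base (IsLocalRing.closedPoint K) := by
  rw [ratv, SGA3cLib.BCPoints.pt_mul]

/-- Neutrality of a point is neutrality of its rational point. -/
theorem mem_neutralSet_iff (σ : fld ω ⟶ G) :
    ptv σ ∈ SGA3x.neutralSet G ↔
      ratv σ ∈ connectedComponent (ratv (1 : fld ω ⟶ G)) := by
  haveI : Subsingleton ↥(Spec (CommRingCat.of K)) := inferInstanceAs (Subsingleton (PrimeSpectrum K))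
  rw [← fst_ratv σ, ← Set.mem_preimage, ← S5322.result]
  have h1 : (SGA3cLib.BCPoints.pt ω G (𝟙_ _) (1 : fld ω ⟶ G)) = η[Red.bc ω G] := by
    have : SGA3cLib.BCPoints.pt ω G (𝟙_ _) (1 : fld ω ⟶ G) = 1 :=
      map_one (MonoidHom.mk' (SGA3cLib.BCPoints.pt ω G (𝟙_ (Over (Spec (CommRingCat.of K))))) (SGA3cLib.BCPoints.pt_mul ω))
    rw [this, Hom.one_def, toUnit_unique (toUnit (𝟙_ _)) (𝟙 _), Category.id_comp]
  have huniv : ∀ q, (Red.bc ω G).hom.base ⁻¹' {q} = Set.univ := fun q =>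
    Set.eq_univ_of_forall fun z => Subsingleton.elim (α := ↥(Spec (CommRingCat.of K))) _ _
  show ratv σ ∈ ⋃ p, connectedComponentIn _ _ ↔ _
  simp only [huniv, connectedComponentIn_univ, Set.mem_iUnion]
  have he : ∀ p, η[Red.bc ω G].left.base p = ratv (1 : fld ω ⟶ G) := fun p => by
    show _ = (SGA3cLib.BCPoints.pt ω G (𝟙_ _) (1 : fld ω ⟶ G)).left.base _
    rw [h1, Subsingleton.elim (α := ↥(Spec (CommRingCat.of K))) p (IsLocalRing.closedPoint K)]
  exact ⟨fun ⟨p, hp⟩ => he p ▸ hp, fun h => ⟨IsLocalRing.closedPoint K, (he _).symm ▸ h⟩⟩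

/-- Translation moves components to components. -/
theorem ratv_mul_mem {σ σ' : fld ω ⟶ G} (τ : fld ω ⟶ G)
    (h : ratv σ' ∈ connectedComponent (ratv σ)) :
    ratv (σ' * τ) ∈ connectedComponent (ratv (σ * τ)) := by
  let H := Red.bc ω G
  let b := SGA3cLib.BCPoints.pt ω G (𝟙_ _) τ
  let r : H ⟶ H := 𝟙 H * (toUnit H ≫ b)
  have key : ∀ υ : fld ω ⟶ G, r.left.base (ratv υ) = ratv (υ * τ) := fun υ => by
    rw [ratv_mul]
    show (SGA3cLib.BCPoints.pt ω G (𝟙_ _) υ ≫ r).left.base _ = _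
    rw [MonObj.comp_mul, Category.comp_id, ← Category.assoc,
      toUnit_unique (SGA3cLib.BCPoints.pt ω G (𝟙_ _) υ ≫ toUnit H) (𝟙 _), Category.id_comp]
  rw [← key σ', ← key σ]
  exact r.left.continuous.image_connectedComponent_subset _ ⟨_, h, rfl⟩

theorem one_mem_neutralSet : ptv (1 : fld ω ⟶ G) ∈ SGA3x.neutralSet G :=
  (mem_neutralSet_iff _).2 mem_connectedComponent

/-- The neutral points form a subgroup. -/
theorem mul_mem_neutralSet {σ τ : fld ω ⟶ G} (hσ : ptv σ ∈ SGA3x.neutralSet G)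
    (hτ : ptv τ ∈ SGA3x.neutralSet G) : ptv (σ * τ) ∈ SGA3x.neutralSet G := by
  rw [mem_neutralSet_iff] at *
  have h1 := ratv_mul_mem τ hσ
  rw [_root_.one_mul] at h1
  rwa [connectedComponent_eq hτ]

theorem inv_mem_neutralSet {σ : fld ω ⟶ G} (hσ : ptv σ ∈ SGA3x.neutralSet G) :
    ptv σ⁻¹ ∈ SGA3x.neutralSet G := by
  rw [mem_neutralSet_iff] at *
  have h1 := ratv_mul_mem σ⁻¹ hσ
  rw [_root_.mul_inv_cancel, _root_.one_mul] at h1
  rw [← connectedComponent_eq h1]
  exact mem_connectedComponent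

/-- Points in the same component differ by a neutral point. -/
theorem mul_inv_mem_neutralSet {σ σ' : fld ω ⟶ G} (h : ratv σ' ∈ connectedComponent (ratv σ)) :
    ptv (σ' * σ⁻¹) ∈ SGA3x.neutralSet G := by
  rw [mem_neutralSet_iff]
  simpa using ratv_mul_mem σ⁻¹ h

/-- The exponents sending a point into the neutral components form a group. -/
noncomputable def exponents (σ : fld ω ⟶ G) : AddSubgroup ℤ where
  carrier := {j : ℤ | ptv (σ ^ j) ∈ SGA3x.neutralSet G}
  zero_mem' := by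
    show ptv (σ ^ (0 : ℤ)) ∈ SGA3x.neutralSet G
    rw [zpow_zero]; exact one_mem_neutralSet
  add_mem' {a b} ha hb := by
    show ptv (σ ^ (a + b)) ∈ SGA3x.neutralSet G
    rw [zpow_add]; exact mul_mem_neutralSet ha hb
  neg_mem' {a} ha := by
    show ptv (σ ^ (-a)) ∈ SGA3x.neutralSet G
    rw [zpow_neg]; exact inv_mem_neutralSet ha

theorem ptv_pow (σ : fld ω ⟶ G) (n : ℕ) :
    ((𝟙 G : G ⟶ G) ^ n).left.base (ptv σ) = ptv (σ ^ n) := by
  show (σ ≫ (𝟙 G : G ⟶ G) ^ n).left.base _ = _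
  rw [MonObj.comp_pow, Category.comp_id]
  rfl

theorem pow_mem_iff (σ : fld ω ⟶ G) (n : ℕ) :
    ((𝟙 G : G ⟶ G) ^ n).left.base (ptv σ) ∈ SGA3x.neutralSet G ↔ (n : ℤ) ∈ exponents σ := by
  rw [ptv_pow]
  show _ ↔ ptv (σ ^ (n : ℤ)) ∈ SGA3x.neutralSet G
  rw [zpow_natCast]

/-- Multiples of a good exponent are good. -/
theorem pow_mem_of_dvd {x : G.left} {a b : ℕ} (hab : a ∣ b)
    (ha : ((𝟙 G : G ⟶ G) ^ a).left.base x ∈ SGA3x.neutralSet G) :
    ((𝟙 G : G ⟶ G) ^ b).left.base x ∈ SGA3x.neutralSet G := by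
  obtain ⟨σ, hσ⟩ := exists_ptv x
  rw [← hσ, pow_mem_iff] at *
  obtain ⟨c, rfl⟩ := hab
  rw [Nat.cast_mul, mul_comm, ← smul_eq_mul]
  exact zsmul_mem ha _

/-- The gcd of two good exponents is good. -/
theorem pow_gcd_mem {x : G.left} {a b : ℕ}
    (ha : ((𝟙 G : G ⟶ G) ^ a).left.base x ∈ SGA3x.neutralSet G)
    (hb : ((𝟙 G : G ⟶ G) ^ b).left.base x ∈ SGA3x.neutralSet G) :
    ((𝟙 G : G ⟶ G) ^ Nat.gcd a b).left.base x ∈ SGA3x.neutralSet G := by
  obtain ⟨σ, hσ⟩ := exists_ptv x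
  rw [← hσ, pow_mem_iff] at *
  rw [Nat.gcd_eq_gcd_ab a b, mul_comm (a : ℤ), mul_comm (b : ℤ), ← smul_eq_mul, ← smul_eq_mul]
  exact add_mem (zsmul_mem ha _) (zsmul_mem hb _)

/-- The neutral components over an affine open lie in a quasi-compact open. -/
theorem exists_compact_supset [LocallyOfFiniteType G.hom] (U : S.Opens) (hU : IsAffineOpen U) :
    ∃ V : G.left.Opens, IsCompact (V : Set G.left) ∧ V ≤ G.hom ⁻¹ᵁ U ∧
      ∀ x ∈ SGA3x.neutralSet G, G.hom.base x ∈ U → x ∈ V := by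
  haveI : IsAffine (U : Scheme.{u}) := hU
  let G' := Red.bc U.ι G
  haveI : LocallyOfFiniteType G'.hom := MorphismProperty.pullback_snd G.hom U.ι inferInstance
  obtain ⟨V', hV', hN'⟩ := S5323.result (U : Scheme.{u}) G' fun s =>
    inferInstanceAs (LocallyOfFiniteType (pullback.snd G'.hom _))
  let p : G'.left ⟶ G.left := pullback.fst G.hom U.ι
  haveI : IsOpenImmersion p := inferInstanceAs (IsOpenImmersion (pullback.fst G.hom U.ι))
  refine ⟨p ''ᵁ V', ?_, ?_, fun x hx hxU => ?_⟩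
  · exact hV'.image p.continuous
  · rintro _ ⟨y, -, rfl⟩
    show G.hom.base (p.base y) ∈ U
    rw [← Scheme.Hom.comp_apply, show p ≫ G.hom = G'.hom ≫ U.ι from pullback.condition]
    exact (G'.hom.base y).2
  · obtain ⟨x', hx'⟩ : x ∈ Set.range p.base := by
      rw [show Set.range p.base = G.hom.base ⁻¹' Set.range U.ι.base from IsOpenImmersion.range_pullbackFst U.ι G.hom]
      exact ⟨⟨_, hxU⟩, rfl⟩
    refine ⟨x', hN' ?_, hx'⟩
    rw [S5322.result]
    show p.base x' ∈ SGA3x.neutralSet G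
    rw [hx']; exact hx

/-- A point whose powers stay in a quasi-compact open is torsion modulo the neutral components. -/
theorem exists_pow_mem_of_powers_mem [LocallyOfFiniteType G.hom] (σ : fld ω ⟶ G) (V : G.left.Opens)
    (hV : IsCompact (V : Set G.left)) (h : ∀ k : ℕ, ptv (σ ^ k) ∈ V) :
    ∃ m : ℕ, 0 < m ∧ ptv (σ ^ m) ∈ SGA3x.neutralSet G := by
  haveI : Finite ↥(Spec (CommRingCat.of K)) := inferInstanceAs (Finite (PrimeSpectrum K))
  haveI : QuasiCompact ω := ⟨fun _ _ _ => (Set.toFinite _).isCompact⟩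
  haveI : LocallyOfFiniteType (Red.bc ω G).hom := MorphismProperty.pullback_snd G.hom ω inferInstance
  haveI : IsLocallyNoetherian (Red.bc ω G).left :=
    LocallyOfFiniteType.isLocallyNoetherian (Red.bc ω G).hom
  let W : Set (Red.bc ω G).left := (pullback.fst G.hom ω).base ⁻¹' (V : Set G.left)
  haveI : QuasiCompact (pullback.fst G.hom ω) := MorphismProperty.pullback_fst _ _ ‹_›
  have hW : IsCompact W := (pullback.fst G.hom ω).isCompact_preimage hV
  have hmem : ∀ k : ℕ, ratv (σ ^ k) ∈ W := fun k => by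
    show (pullback.fst G.hom ω).base (ratv _) ∈ V
    rw [fst_ratv]; exact h k
  obtain ⟨t, ht⟩ := hW.elim_finite_subcover (fun c : (Red.bc ω G).left => connectedComponent c)
    (fun c => SGA3cLib.isOpen_connectedComponent c) (fun c _ => Set.mem_iUnion.2 ⟨c, mem_connectedComponent⟩)
  choose c hct hc using fun k => Set.mem_iUnion₂.1 (ht (hmem k))
  obtain ⟨a, b, hab, hcab⟩ := Finite.exists_ne_map_eq_of_infinite
    (fun k => (⟨c k, hct k⟩ : (t : Set (Red.bc ω G).left)))
  wlog hlt : a < b generalizing a b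
  · exact this b a hab.symm hcab.symm (by omega)
  have he : c a = c b := congrArg Subtype.val hcab
  have hm := mul_inv_mem_neutralSet (σ := σ ^ a) (σ' := σ ^ b)
    (connectedComponent_eq (hc a) ▸ (he ▸ hc b))
  exact ⟨b - a, by omega, by rwa [pow_sub σ hlt.le]⟩

/-- Generizations of torsion points are torsion. -/
theorem torsion_of_specializes [LocallyOfFiniteType G.hom] {x z : G.left} (hzx : z ⤳ x) {n : ℕ}
    (hn : 0 < n) (hx : ((𝟙 G : G ⟶ G) ^ n).left.base x ∈ SGA3x.neutralSet G) :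
    ∃ m : ℕ, 0 < m ∧ ((𝟙 G : G ⟶ G) ^ m).left.base z ∈ SGA3x.neutralSet G := by
  obtain ⟨U, hU, hxU, -⟩ := exists_isAffineOpen_mem_and_subset (U := ⊤) (x := G.hom.base x) trivial
  obtain ⟨V, hV, -, hNV⟩ := exists_compact_supset (G := G) U hU
  obtain ⟨σ, hσ⟩ := exists_ptv z
  obtain ⟨m, hm, hmem⟩ := exists_pow_mem_of_powers_mem (σ ^ n) V hV fun k => by
    rw [← pow_mul, ← ptv_pow, hσ]
    have h1 : ((𝟙 G : G ⟶ G) ^ (n * k)).left.base z ⤳ ((𝟙 G : G ⟶ G) ^ (n * k)).left.base x :=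
      hzx.map ((𝟙 G : G ⟶ G) ^ (n * k)).left.continuous
    refine h1.mem_open V.isOpen (hNV _ (pow_mem_of_dvd (dvd_mul_right n k) hx) ?_)
    rw [← Scheme.Hom.comp_apply, Over.w]
    exact hxU
  refine ⟨n * m, Nat.mul_pos hn hm, ?_⟩
  rw [← hσ, ptv_pow, pow_mul]
  exact hmem

end Groth.Agent.H8Grp
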