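import Groth.Agent.H8Grp.NeutralPoints
import Groth.Agent.SGA3cLib.GeomConn
import Groth.Agent.FlatMorGeomIrr.Components
import Groth.Agent.FlatMorGeomIrr.CountOne
import Groth.Agent.FlatMor12.SchDense
import Groth.Agent.Coherent.CohBC.PushStructureIso

/-!
# The neutral components are open over a dense open of each closed subset of the base
-/

set_option autoImplicit false
set_option maxHeartbeats 1600000
set_option backward.isDefEq.respectTransparency.types false
set_option linter.style.haveILetI false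

universe u

open CategoryTheory Limits AlgebraicGeometry MonoidalCategory CartesianMonoidalCategory MonObj GrpObj
open Topology TopologicalSpace

namespace Groth.Agent.H8Grp

/-- A constructible set contains or avoids a relative neighbourhood of each point in its closure. -/
theorem exists_open_const_of_isConstructible {α : Type*} [TopologicalSpace α] {E : Set α}
    (hE : IsConstructible E) (s : α) :
    ∃ U : Set α, IsOpen U ∧ s ∈ U ∧ ((∀ t ∈ U, s ⤳ t → t ∈ E) ∨ (∀ t ∈ U, s ⤳ t → t ∉ E)) := by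
  induction hE using IsConstructible.empty_union_induction with
  | open_retrocompact U hU _ =>
    by_cases hs : s ∈ U
    · exact ⟨U, hU, hs, Or.inl fun t ht _ => ht⟩
    · exact ⟨Set.univ, isOpen_univ, trivial, Or.inr fun t _ hst ht => hs (hst.mem_open hU ht)⟩
  | union A _ B _ hA hB =>
    obtain ⟨U, hU, hsU, hA⟩ := hA
    obtain ⟨U', hU', hsU', hB⟩ := hB
    refine ⟨U ∩ U', hU.inter hU', ⟨hsU, hsU'⟩, ?_⟩
    rcases hA with hA | hA
    · exact Or.inl fun t ht hst => Or.inl (hA t ht.1 hst)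
    rcases hB with hB | hB
    · exact Or.inl fun t ht hst => Or.inr (hB t ht.2 hst)
    exact Or.inr fun t ht hst h => h.elim (hA t ht.1 hst) (hB t ht.2 hst)
  | compl A _ hA =>
    obtain ⟨U, hU, hsU, hA⟩ := hA
    refine ⟨U, hU, hsU, hA.symm.imp id ?_⟩
    exact fun h t ht hst ht' => ht' (h t ht hst)

theorem isConstructible_of_isOpen' {α : Type*} [TopologicalSpace α] [NoetherianSpace α] {U : Set α}
    (hU : IsOpen U) : IsConstructible U :=
  (show IsRetrocompact U from fun _ _ _ => NoetherianSpace.isCompact _).isConstructible hU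

theorem isConstructible_of_isClosed' {α : Type*} [TopologicalSpace α] [NoetherianSpace α] {C : Set α}
    (hC : IsClosed C) : IsConstructible C :=
  compl_compl C ▸ (isConstructible_of_isOpen' hC.isOpen_compl).compl

variable {S : Scheme.{u}} {G : Over S} [GrpObj G]

theorem hom_one (s : S) : G.hom.base (η[G].left.base s) = s := by
  rw [← Scheme.Hom.comp_apply, Over.w]
  rfl

/-- The trace of the neutral components on a fibre. -/
theorem neutralSet_inter_fibre (s : S) :
    SGA3x.neutralSet G ∩ G.hom.base ⁻¹' {s} = connectedComponentIn (G.hom.base ⁻¹' {s}) (η[G].left.base s) := by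
  refine Set.Subset.antisymm ?_ fun x hx => ⟨Set.mem_iUnion.2 ⟨s, hx⟩, connectedComponentIn_subset _ _ hx⟩
  rintro x ⟨hx, hxs⟩
  obtain ⟨p, hp⟩ := Set.mem_iUnion.1 hx
  have h1 : G.hom.base x = p := connectedComponentIn_subset (G.hom.base ⁻¹' {(𝟙_ (Over S)).hom.base p}) _ hp
  obtain rfl : p = s := h1.symm.trans hxs
  exact hp

theorem one_mem (s : S) : η[G].left.base s ∈ SGA3x.neutralSet G :=
  ((neutralSet_inter_fibre (G := G) s).ge (mem_connectedComponentIn (hom_one (G := G) s))).1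

variable [IsLocallyNoetherian S] [LocallyOfFiniteType G.hom]

/-- **Key lemma.** Near each point, on its closure, the neutral components are the trace of an open set. -/
theorem exists_open_neutral (s₀ : S) :
    ∃ (U : S.Opens) (O : G.left.Opens), s₀ ∈ U ∧
      ∀ x : G.left, G.hom.base x ∈ U → s₀ ⤳ G.hom.base x → (x ∈ SGA3x.neutralSet G ↔ x ∈ O) := by
  obtain ⟨U₀, hU₀, hs₀, -⟩ := exists_isAffineOpen_mem_and_subset (U := ⊤) (x := s₀) trivial
  obtain ⟨V, hV, hVU, hNV⟩ := exists_compact_supset (G := G) U₀ hU₀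
  haveI : IsAffine (U₀ : Scheme.{u}) := hU₀
  haveI : CompactSpace ↥(V : Scheme.{u}) := isCompact_iff_compactSpace.mp hV
  let g : (V : Scheme.{u}) ⟶ (U₀ : Scheme.{u}) := IsOpenImmersion.lift U₀.ι (V.ι ≫ G.hom) (by
    rintro _ ⟨v, rfl⟩
    rw [Scheme.Opens.range_ι]
    exact hVU v.2)
  have hg : g ≫ U₀.ι = V.ι ≫ G.hom := IsOpenImmersion.lift_fac _ _ _
  have hgx : ∀ v, (g.base v).1 = G.hom.base v.1 := fun v => congrArg (fun k => k.base v) hg
  haveI : LocallyOfFiniteType (g ≫ U₀.ι) := hg ▸ inferInstance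
  haveI : LocallyOfFiniteType g := locallyOfFiniteType_of_comp g U₀.ι
  haveI : QuasiCompact g := AlgebraicGeometry.quasiCompact_of_compactSpace g
  haveI : LocallyOfFinitePresentation g := Coherent.CohBC.locallyOfFinitePresentation_of_isLocallyNoetherian g
  haveI : IsLocallyNoetherian (V : Scheme.{u}) := LocallyOfFiniteType.isLocallyNoetherian g
  haveI : AlgebraicGeometry.IsNoetherian (V : Scheme.{u}) := {}
  haveI : NoetherianSpace ↥(V : Scheme.{u}) := inferInstance
  -- the fibre over `s₀`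
  let F : Set G.left := G.hom.base ⁻¹' {s₀}
  let Ns := SGA3x.neutralSet G ∩ F
  have hNs : Ns = connectedComponentIn F (η[G].left.base s₀) := neutralSet_inter_fibre s₀
  have heF : η[G].left.base s₀ ∈ F := hom_one s₀
  have hopen : ∃ A : Set G.left, IsOpen A ∧ A ∩ F = Ns := by
    haveI : LocallyOfFiniteType (G.hom.fiberToSpecResidueField s₀) :=
      inferInstanceAs (LocallyOfFiniteType (pullback.snd G.hom _))
    haveI : IsLocallyNoetherian (G.hom.fiber s₀) :=
      LocallyOfFiniteType.isLocallyNoetherian (G.hom.fiberToSpecResidueField s₀)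
    have h1 : IsOpen (connectedComponent (⟨_, heF⟩ : F)) := by
      let h := G.hom.fiberHomeo s₀
      have h2 := h.isOpenMap _ (SGA3cLib.isOpen_connectedComponent (h.symm ⟨_, heF⟩))
      convert h2 using 1
      refine Set.Subset.antisymm (fun y hy => ⟨h.symm y, ?_, h.apply_symm_apply y⟩) ?_
      · exact h.symm.continuous.image_connectedComponent_subset _ ⟨y, hy, rfl⟩
      · rintro _ ⟨z, hz, rfl⟩
        have := h.continuous.image_connectedComponent_subset _ ⟨z, hz, rfl⟩
        rwa [h.apply_symm_apply] at this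
    obtain ⟨A, hA, hAe⟩ := isOpen_induced_iff.1 h1
    refine ⟨A, hA, ?_⟩
    rw [hNs, connectedComponentIn_eq_image heF, ← hAe, Subtype.image_preimage_val, Set.inter_comm]
  obtain ⟨A, hA, hAF⟩ := hopen
  have hcl : closure Ns ∩ F ⊆ Ns := by
    rintro x ⟨hx, hxF⟩
    have h1 : (⟨x, hxF⟩ : F) ∈ closure (Subtype.val ⁻¹' Ns) := by
      rw [closure_subtype, Subtype.image_preimage_val, Set.inter_eq_right.2 fun y hy => hy.2]
      exact hx
    have hc : IsClosed (Subtype.val ⁻¹' Ns : Set F) := by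
      rw [hNs, connectedComponentIn_eq_image heF, Set.preimage_image_eq _ Subtype.val_injective]
      exact isClosed_connectedComponent
    exact hc.closure_eq.le h1
  let C := closure Ns
  let R := closure (F \ Ns)
  have hCR : ∀ x ∈ F, x ∈ C → x ∉ R := fun x hxF hxC hxR => by
    have hxA : x ∈ A := (hAF.ge (hcl ⟨hxC, hxF⟩)).1
    obtain ⟨y, hyA, hyF, hyN⟩ := mem_closure_iff.1 hxR A hA hxA
    exact hyN (hAF.le ⟨hyA, hyF⟩)
  have hFCR : ∀ x ∈ F, x ∈ C ∨ x ∈ R := fun x hxF =>
    (em (x ∈ Ns)).imp (fun h => subset_closure h) (fun h => subset_closure ⟨hxF, h⟩)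
  -- the bad locus
  let Z : Set ↥(U₀ : Scheme.{u}) := closure {⟨s₀, hs₀⟩}
  let bad : Set ↥(V : Scheme.{u}) := g.base ⁻¹' Z ∩
    ((Subtype.val ⁻¹' C ∪ Subtype.val ⁻¹' R)ᶜ ∪ (Subtype.val ⁻¹' C ∩ Subtype.val ⁻¹' R))
  have hbad : IsConstructible bad := by
    have hc : ∀ K : Set G.left, IsConstructible (Subtype.val ⁻¹' closure K : Set ↥(V : Scheme.{u})) :=
      fun K => isConstructible_of_isClosed' (isClosed_closure.preimage continuous_subtype_val)
    exact (isConstructible_of_isClosed' (isClosed_closure.preimage g.continuous)).inter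
      ((((hc _).union (hc _)).compl).union ((hc _).inter (hc _)))
  have hns : (⟨s₀, hs₀⟩ : ↥(U₀ : Scheme.{u})) ∉ g.base '' bad := by
    rintro ⟨v, ⟨-, hv⟩, hvs⟩
    have hvF : v.1 ∈ F := (hgx v).symm.trans (congrArg Subtype.val hvs)
    rcases hv with hv | ⟨h1, h2⟩
    · exact hv (hFCR _ hvF)
    · exact hCR _ hvF h1 h2
  obtain ⟨U₁, hU₁, hs₁, hU₁b⟩ := exists_open_const_of_isConstructible (g.isConstructible_image hbad) ⟨s₀, hs₀⟩
  have hgood : ∀ t ∈ U₁, (⟨s₀, hs₀⟩ : ↥(U₀ : Scheme.{u})) ⤳ t → t ∉ g.base '' bad :=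
    hU₁b.resolve_left fun h => hns (h _ hs₁ specializes_rfl)
  -- connectedness of the fibres of the closure
  let C' : Closeds ↥(V : Scheme.{u}) := ⟨Subtype.val ⁻¹' C, isClosed_closure.preimage continuous_subtype_val⟩
  let I := Scheme.IdealSheafData.vanishingIdeal C'
  let h := I.subschemeι ≫ g
  have hrange : Set.range I.subschemeι.base = C' := by
    rw [Scheme.IdealSheafData.range_subschemeι, Scheme.IdealSheafData.coe_support_vanishingIdeal]
  let j := I.subschemeι ≫ V.ι
  have hj : IsInducing j.base := j.isEmbedding.isInducing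
  have hjimg : ∀ t : ↥(U₀ : Scheme.{u}), j.base '' (h.base ⁻¹' {t}) = C ∩ (V : Set G.left) ∩ G.hom.base ⁻¹' {t.1} := by
    intro t
    refine Set.Subset.antisymm ?_ ?_
    · rintro _ ⟨y, hy, rfl⟩
      exact ⟨⟨hrange.le ⟨y, rfl⟩, (I.subschemeι.base y).2⟩,
        (hgx _).symm.trans (congrArg Subtype.val hy)⟩
    · rintro x ⟨⟨hxC, hxV⟩, hxt⟩
      obtain ⟨y, hy⟩ : (⟨x, hxV⟩ : ↥(V : Scheme.{u})) ∈ Set.range I.subschemeι.base := hrange.ge hxC
      refine ⟨y, Subtype.ext ?_, congrArg Subtype.val hy⟩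
      show (g.base (I.subschemeι.base y)).1 = t.1
      rw [hgx, hy]; exact hxt
  haveI : QuasiCompact h := inferInstance
  haveI : LocallyOfFiniteType h := inferInstance
  have hgc : GeometricallyConnected (h.fiberToSpecResidueField ⟨s₀, hs₀⟩) := by
    let p := (U₀ : Scheme.{u}).fromSpecResidueField ⟨s₀, hs₀⟩
    have hp : ∀ o, (U₀.ι.base (p.base o)) = s₀ := fun o => by
      rw [show p.base o = ⟨s₀, hs₀⟩ from Scheme.fromSpecResidueField_apply _ _]
      rfl
    let ε := IsOpenImmersion.lift V.ι ((p ≫ U₀.ι) ≫ η[G].left) (by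
      rintro _ ⟨o, rfl⟩
      rw [Scheme.Opens.range_ι]
      show η[G].left.base (U₀.ι.base (p.base o)) ∈ V
      rw [hp]
      exact hNV _ (one_mem s₀) (by rwa [hom_one]))
    have hε : ε ≫ V.ι = (p ≫ U₀.ι) ≫ η[G].left := IsOpenImmersion.lift_fac _ _ _
    have hεg : ε ≫ g = p := by
      rw [← cancel_mono U₀.ι, Category.assoc, hg, reassoc_of% hε, Over.w η[G]]
      exact congrArg (p ≫ ·) (Category.comp_id _)
    have hεC : ∀ o, ε.base o ∈ (C' : Set ↥(V : Scheme.{u})) := fun o => by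
      show (V.ι.base (ε.base o)) ∈ C
      rw [← Scheme.Hom.comp_apply, hε]
      show η[G].left.base (U₀.ι.base (p.base o)) ∈ C
      rw [hp]
      exact subset_closure ⟨one_mem s₀, heF⟩
    haveI : IsReduced (Spec ((U₀ : Scheme.{u}).residueField ⟨s₀, hs₀⟩)) := inferInstance
    have hker : I.subschemeι.ker ≤ ε.ker := by
      rw [Scheme.IdealSheafData.ker_subschemeι]
      refine le_trans (Scheme.IdealSheafData.le_support_iff_le_vanishingIdeal.1 ?_) (FlatMor12.SchDense.vanishingIdeal_le_ker ε)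
      refine closure_minimal ?_ I.support.isClosed
      rw [Scheme.IdealSheafData.coe_support_vanishingIdeal]
      rintro _ ⟨o, rfl⟩
      exact hεC o
    let ε' := IsClosedImmersion.lift I.subschemeι ε hker
    let x : Spec ((U₀ : Scheme.{u}).residueField ⟨s₀, hs₀⟩) ⟶ h.fiber ⟨s₀, hs₀⟩ :=
      pullback.lift ε' (𝟙 _) (by
        show ε' ≫ I.subschemeι ≫ g = _
        rw [← Category.assoc, IsClosedImmersion.lift_fac, hεg, Category.id_comp])
    have hx : x ≫ h.fiberToSpecResidueField ⟨s₀, hs₀⟩ = 𝟙 _ := pullback.lift_snd _ _ _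
    haveI : ConnectedSpace (h.fiber ⟨s₀, hs₀⟩) := by
      have hne : Nonempty (h.fiber ⟨s₀, hs₀⟩) :=
        ⟨x.base (IsLocalRing.closedPoint ((U₀ : Scheme.{u}).residueField ⟨s₀, hs₀⟩))⟩
      have hpre : _root_.IsPreconnected (h.base ⁻¹' {(⟨s₀, hs₀⟩ : ↥(U₀ : Scheme.{u}))}) := by
        refine hj.isPreconnected_image.1 ?_
        erw [hjimg]
        have : C ∩ (V : Set G.left) ∩ G.hom.base ⁻¹' {s₀} = Ns :=
          Set.Subset.antisymm (fun y hy => hcl ⟨hy.1.1, hy.2⟩)
            fun y hy => ⟨⟨subset_closure hy, hNV _ hy.1 (by rw [show G.hom.base y = s₀ from hy.2]; exact hs₀)⟩, hy.2⟩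
        rw [this, hNs]
        exact isPreconnected_connectedComponentIn
      haveI : PreconnectedSpace ↥(h.base ⁻¹' {(⟨s₀, hs₀⟩ : ↥(U₀ : Scheme.{u}))}) := Subtype.preconnectedSpace hpre
      haveI : PreconnectedSpace (h.fiber ⟨s₀, hs₀⟩) :=
        (h.fiberHomeo ⟨s₀, hs₀⟩).symm.surjective.denseRange.preconnectedSpace (h.fiberHomeo ⟨s₀, hs₀⟩).symm.continuous
      exact ⟨hne⟩
    have := SGA3cLib.geometricallyConnected_of_rational_point _ (h.fiberToSpecResidueField ⟨s₀, hs₀⟩)
      (𝟙 (h.fiber ⟨s₀, hs₀⟩)) x hx (fun _ _ => ⟨_, rfl⟩)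
    rwa [Category.id_comp] at this
  obtain ⟨V', -, hs', hV'open, hV'⟩ := FlatMorGeomIrr.exists_counts_const_near h ⟨s₀, hs₀⟩
  obtain ⟨U₂, hU₂, hU₂V⟩ := isOpen_induced_iff.1 hV'open
  refine ⟨⟨U₀.ι.base '' (U₁ ∩ U₂), U₀.ι.isOpenEmbedding.isOpenMap _ (hU₁.inter hU₂)⟩,
    ⟨(V : Set G.left) \ R, V.isOpen.sdiff isClosed_closure⟩, ?_, ?_⟩
  · have : (⟨⟨s₀, hs₀⟩, subset_closure rfl⟩ : closure ({(⟨s₀, hs₀⟩ : ↥(U₀ : Scheme.{u}))} : Set _)) ∈
        Subtype.val ⁻¹' U₂ := hU₂V ▸ hs'
    exact ⟨⟨s₀, hs₀⟩, ⟨hs₁, this⟩, rfl⟩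
  rintro x ⟨t, ⟨ht₁, ht₂⟩, htx⟩ hsx
  have htx' : t.1 = G.hom.base x := htx
  have hst : (⟨s₀, hs₀⟩ : ↥(U₀ : Scheme.{u})) ⤳ t :=
    IsInducing.subtypeVal.specializes_iff.1 (by rw [htx']; exact hsx)
  have htV' : t ∈ V' := by
    have : (⟨t, specializes_iff_mem_closure.1 hst⟩ : closure ({(⟨s₀, hs₀⟩ : ↥(U₀ : Scheme.{u}))} : Set _)) ∈
        Subtype.val ⁻¹' U₂ := ht₂
    exact (Set.ext_iff.1 hU₂V _).1 this
  have het : η[G].left.base t.1 ∈ C := by
    have : η[G].left.base s₀ ⤳ η[G].left.base t.1 := (hst.map continuous_subtype_val).map η[G].left.continuous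
    exact this.mem_closed isClosed_closure (subset_closure ⟨one_mem s₀, heF⟩)
  have hdis : ∀ y ∈ V, G.hom.base y = t.1 → (y ∈ C ∨ y ∈ R) ∧ ¬(y ∈ C ∧ y ∈ R) := by
    intro y hy hyt
    have hb : (⟨y, hy⟩ : ↥(V : Scheme.{u})) ∉ bad := fun hb =>
      hgood t ht₁ hst ⟨_, hb, Subtype.ext ((hgx _).trans hyt)⟩
    have hZ : g.base ⟨y, hy⟩ ∈ Z := by
      rw [show g.base ⟨y, hy⟩ = t from Subtype.ext ((hgx _).trans hyt)]
      exact specializes_iff_mem_closure.1 hst
    exact ⟨by by_contra h'; exact hb ⟨hZ, Or.inl h'⟩, fun h' => hb ⟨hZ, Or.inr h'⟩⟩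
  constructor
  · intro hxN
    have hxA : x ∈ connectedComponentIn (G.hom.base ⁻¹' {t.1}) (η[G].left.base t.1) :=
      (neutralSet_inter_fibre t.1).le ⟨hxN, htx'.symm⟩
    have hsub : ∀ y ∈ connectedComponentIn (G.hom.base ⁻¹' {t.1}) (η[G].left.base t.1), y ∈ V ∧ G.hom.base y = t.1 := by
      intro y hy
      obtain ⟨h1, h2⟩ := (neutralSet_inter_fibre (G := G) t.1).ge hy
      exact ⟨hNV _ h1 (by rw [show G.hom.base y = t.1 from h2]; exact t.2), h2⟩
    refine ⟨(hsub x hxA).1, fun hxR => ?_⟩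
    obtain ⟨y, hyA, hyC, hyR⟩ := isPreconnected_closed_iff.1
      (isPreconnected_connectedComponentIn (F := G.hom.base ⁻¹' {t.1}) (x := η[G].left.base t.1)) C R isClosed_closure isClosed_closure
      (fun y hy => (hdis y (hsub y hy).1 (hsub y hy).2).1)
      ⟨_, mem_connectedComponentIn (hom_one (G := G) t.1), het⟩ ⟨x, hxA, hxR⟩
    exact (hdis y (hsub y hyA).1 (hsub y hyA).2).2 ⟨hyC, hyR⟩
  · rintro ⟨hxV, hxR⟩
    have hxC : x ∈ C := ((hdis x hxV htx'.symm).1).resolve_right hxR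
    haveI : GeometricallyConnected (h.fiberToSpecResidueField t) :=
      (FlatMorGeomIrr.geometricallyConnected_iff_count h t).2
        ((hV' t htV').2.trans ((FlatMorGeomIrr.geometricallyConnected_iff_count h ⟨s₀, hs₀⟩).1 hgc))
    haveI : Subsingleton ↥(Spec ((U₀ : Scheme.{u}).residueField t)) :=
      inferInstanceAs (Subsingleton (PrimeSpectrum ((U₀ : Scheme.{u}).residueField t)))
    haveI : ConnectedSpace (h.fiber t) :=
      GeometricallyConnected.connectedSpace_of_subsingleton (h.fiberToSpecResidueField t)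
    have hpre : _root_.IsPreconnected (j.base '' (h.base ⁻¹' {t})) := by
      refine IsPreconnected.image ?_ _ j.continuous.continuousOn
      rw [← h.range_fiberι]
      exact isPreconnected_range (h.fiberι t).continuous
    rw [hjimg] at hpre
    refine ((neutralSet_inter_fibre (G := G) t.1).ge (hpre.subset_connectedComponentIn ?_ ?_ ?_)).1
    · exact ⟨⟨het, hNV _ (one_mem t.1) (by rw [hom_one]; exact t.2)⟩, hom_one _⟩
    · exact Set.inter_subset_right
    · exact ⟨⟨hxC, hxV⟩, htx'.symm⟩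

end Groth.Agent.H8Grp
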