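import Groth.Agent.H8Grp.Torsion
import Groth.Agent.SGA3cLib.Transporter

/-!
# The open subgroup of neutral components over a dense open of the base
-/

set_option autoImplicit false
set_option maxHeartbeats 1600000
set_option backward.isDefEq.respectTransparency.types false
set_option linter.style.haveILetI false

universe u

open CategoryTheory Limits AlgebraicGeometry MonoidalCategory CartesianMonoidalCategory MonObj GrpObj
open Topology TopologicalSpace

namespace Groth.Agent.H8Grp

variable {S : Scheme.{u}} {G : Over S} [GrpObj G]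

/-- Products and inverses of neutral points are neutral. -/
theorem forall_mem_mul_inv {T : Over S} (a b : T ⟶ G) (ha : ∀ o, a.left.base o ∈ SGA3x.neutralSet G)
    (hb : ∀ o, b.left.base o ∈ SGA3x.neutralSet G) (o : T.left) :
    (a * b⁻¹).left.base o ∈ SGA3x.neutralSet G := by
  obtain ⟨t, ht⟩ := exists_ptv o
  have key : ∀ c : T ⟶ G, ptv (t ≫ c) = c.left.base o := fun c =>
    (show ptv (t ≫ c) = c.left.base (ptv t) from rfl).trans (congrArg _ ht)
  rw [← key, MonObj.comp_mul, GrpObj.comp_inv]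
  exact mul_mem_neutralSet (by rw [key]; exact ha o) (inv_mem_neutralSet (by rw [key]; exact hb o))

theorem forall_mem_one {T : Over S} (o : T.left) : (1 : T ⟶ G).left.base o ∈ SGA3x.neutralSet G := by
  obtain ⟨t, ht⟩ := exists_ptv o
  rw [← ht]
  show ptv (t ≫ (1 : T ⟶ G)) ∈ _
  rw [MonObj.comp_one]
  exact one_mem_neutralSet

/-- An open set equal to the neutral components carries an open subgroup scheme. -/
theorem exists_openSubgroup (O : G.left.Opens) (hO : (O : Set G.left) = SGA3x.neutralSet G) :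
    ∃ (H : Over S) (_ : GrpObj H) (i : H ⟶ G), IsMonHom i ∧ IsOpenImmersion i.left ∧
      Set.range i.left.base = (O : Set G.left) ∧
      (∀ s : S, _root_.IsConnected (H.hom.base ⁻¹' {s})) := by
  let H : Over S := Over.mk (O.ι ≫ G.hom)
  let i : H ⟶ G := Over.homMk O.ι
  haveI : IsOpenImmersion i.left := inferInstanceAs (IsOpenImmersion O.ι)
  haveI : Mono i := (Over.forget S).mono_of_mono_map (inferInstanceAs (Mono O.ι))
  have hr : Set.range i.left.base = (O : Set G.left) := O.range_ι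
  have hlift : ∀ {T : Over S} (a : T ⟶ G), (∀ o, a.left.base o ∈ SGA3x.neutralSet G) → ∃ z : T ⟶ H, z ≫ i = a := by
    intro T a ha
    have hsub : Set.range a.left.base ⊆ Set.range i.left.base := by
      rintro _ ⟨o, rfl⟩; rw [hr, hO]; exact ha o
    refine ⟨Over.homMk (IsOpenImmersion.lift i.left a.left hsub) ?_, ?_⟩
    · rw [← Over.w i, IsOpenImmersion.lift_fac_assoc]; exact Over.w a
    · ext : 1; exact IsOpenImmersion.lift_fac _ _ _
  have hmem : ∀ {T : Over S} (a : T ⟶ H) (o : T.left), (a ≫ i).left.base o ∈ SGA3x.neutralSet G :=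
    fun a o => hO.le (hr.le ⟨a.left.base o, rfl⟩)
  obtain ⟨inst, hi⟩ := SGA3cLib.exists_grpObj_of_subgroup i (fun T => hlift 1 forall_mem_one)
    (fun T a b => hlift _ fun o => by
      have := forall_mem_mul_inv (a ≫ i) (b ≫ i)⁻¹ (hmem a)
        (fun o' => by simpa using forall_mem_mul_inv 1 (b ≫ i) forall_mem_one (hmem b) o') o
      rwa [_root_.inv_inv] at this)
    (fun T a => hlift _ fun o => by simpa using forall_mem_mul_inv 1 (a ≫ i) forall_mem_one (hmem a) o)
  refine ⟨H, inst, i, hi, inferInstance, hr, fun s => ?_⟩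
  have himg : i.left.base '' (H.hom.base ⁻¹' {s}) = SGA3x.neutralSet G ∩ G.hom.base ⁻¹' {s} := by
    ext x
    constructor
    · rintro ⟨y, hy, rfl⟩
      exact ⟨hO.le (hr.le ⟨y, rfl⟩), hy⟩
    · rintro ⟨hx, hxs⟩
      obtain ⟨y, rfl⟩ : x ∈ Set.range i.left.base := hr.ge (hO.ge hx)
      exact ⟨y, hxs, rfl⟩
  rw [neutralSet_inter_fibre] at himg
  refine ⟨?_, ?_⟩
  · obtain ⟨y, hy, -⟩ := himg.ge (mem_connectedComponentIn (hom_one (G := G) s))
    exact ⟨y, hy⟩
  · refine i.left.isOpenEmbedding.isInducing.isPreconnected_image.1 ?_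
    rw [himg]
    exact isPreconnected_connectedComponentIn

/-- A nonempty locally Noetherian scheme has a point with an open neighbourhood inside its closure. -/
theorem exists_dominant_point [IsLocallyNoetherian S] [Nonempty S] :
    ∃ (s₀ : S) (A : S.Opens), s₀ ∈ A ∧ ∀ t ∈ A, s₀ ⤳ t := by
  obtain ⟨U₀, hU₀, hne, -⟩ := exists_isAffineOpen_mem_and_subset (U := ⊤) (x := Classical.arbitrary S) trivial
  haveI : IsAffine (U₀ : Scheme.{u}) := hU₀
  haveI : AlgebraicGeometry.IsNoetherian (U₀ : Scheme.{u}) := {}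
  let x₀ : ↥(U₀ : Scheme.{u}) := ⟨_, hne⟩
  let C := irreducibleComponent x₀
  have hC : C ∈ irreducibleComponents ↥(U₀ : Scheme.{u}) := irreducibleComponent_mem_irreducibleComponents x₀
  let others : Set ↥(U₀ : Scheme.{u}) := ⋃ D ∈ irreducibleComponents ↥(U₀ : Scheme.{u}) \ {C}, D
  have hfin : (irreducibleComponents ↥(U₀ : Scheme.{u})).Finite := NoetherianSpace.finite_irreducibleComponents
  have hoc : IsClosed others := hfin.sdiff.isClosed_biUnion fun D hD => isClosed_of_mem_irreducibleComponents D hD.1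
  obtain ⟨ξ, hξ⟩ := QuasiSober.sober isIrreducible_irreducibleComponent isClosed_irreducibleComponent (S := C)
  have hξo : ξ ∉ others := fun h => by
    obtain ⟨D, hD, hξD⟩ := Set.mem_iUnion₂.1 h
    have hsub : C ⊆ D := hξ.def ▸ closure_minimal (Set.singleton_subset_iff.2 hξD)
      (isClosed_of_mem_irreducibleComponents D hD.1)
    exact hD.2 (Set.Subset.antisymm (hC.2 hD.1.1 hsub) hsub)
  have hA : IsOpen (U₀.ι.base '' othersᶜ) := U₀.ι.isOpenEmbedding.isOpenMap _ hoc.isOpen_compl
  refine ⟨U₀.ι.base ξ, ⟨_, hA⟩, ⟨ξ, hξo, rfl⟩, ?_⟩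
  rintro _ ⟨y, hy, rfl⟩
  refine (hξ.specializes ?_).map U₀.ι.continuous
  by_contra hyC
  exact hy (Set.mem_iUnion₂.2 ⟨irreducibleComponent y,
    ⟨irreducibleComponent_mem_irreducibleComponents y, fun e => hyC (e ▸ mem_irreducibleComponent)⟩,
    mem_irreducibleComponent⟩)

variable [IsLocallyNoetherian S] [LocallyOfFiniteType G.hom]

/-- Over a nonempty open of the base the neutral components form an open subgroup of finite type. -/
theorem exists_openSubgroup_over_open [Nonempty S] :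
    ∃ U : S.Opens, (U : Set S).Nonempty ∧
      ∃ (H : Over (U : Scheme.{u})) (_ : GrpObj H) (i : H ⟶ Red.bc U.ι G), IsMonHom i ∧ IsOpenImmersion i.left ∧
        QuasiCompact H.hom ∧ LocallyOfFiniteType H.hom ∧
        (∀ u : ↥(U : Scheme.{u}), _root_.IsConnected (H.hom.base ⁻¹' {u})) ∧
        Set.range (i.left ≫ pullback.fst G.hom U.ι).base = SGA3x.neutralSet G ∩ G.hom.base ⁻¹' (U : Set S) := by
  obtain ⟨s₀, A, hs₀, hA⟩ := exists_dominant_point (S := S)
  obtain ⟨U', O, hsU', hO⟩ := exists_open_neutral (G := G) s₀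
  obtain ⟨U₀, hU₀, hsU₀, hU₀A⟩ := exists_isAffineOpen_mem_and_subset (U := A ⊓ U') (x := s₀) ⟨hs₀, hsU'⟩
  obtain ⟨V, hV, hVU, hNV⟩ := exists_compact_supset (G := G) U₀ hU₀
  have hON : ∀ x : G.left, G.hom.base x ∈ U₀ → (x ∈ SGA3x.neutralSet G ↔ x ∈ O) := fun x hx =>
    hO x (hU₀A hx).2 (hA _ (hU₀A hx).1)
  let G' := Red.bc U₀.ι G
  let p : G'.left ⟶ G.left := pullback.fst G.hom U₀.ι
  haveI : IsOpenImmersion p := inferInstanceAs (IsOpenImmersion (pullback.fst G.hom U₀.ι))
  have hp : ∀ y, G.hom.base (p.base y) ∈ U₀ := fun y => by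
    rw [← Scheme.Hom.comp_apply, show p ≫ G.hom = G'.hom ≫ U₀.ι from pullback.condition]
    exact (G'.hom.base y).2
  have hpr : Set.range p.base = G.hom.base ⁻¹' (U₀ : Set S) := by
    rw [show Set.range p.base = G.hom.base ⁻¹' Set.range U₀.ι.base from IsOpenImmersion.range_pullbackFst U₀.ι G.hom,
      Scheme.Opens.range_ι]
  have hO' : ((p ⁻¹ᵁ O : G'.left.Opens) : Set G'.left) = SGA3x.neutralSet G' := by
    ext y
    rw [S5322.result]
    exact (hON _ (hp y)).symm
  obtain ⟨H, inst, i, hi, hio, hr, hconn⟩ := exists_openSubgroup (G := G') (p ⁻¹ᵁ O) hO'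
  haveI := hio
  haveI : LocallyOfFiniteType G'.hom := MorphismProperty.pullback_snd G.hom U₀.ι inferInstance
  haveI : LocallyOfFiniteType H.hom := by rw [← Over.w i]; infer_instance
  haveI : CompactSpace H.left := by
    haveI := noetherianSpace_opens (G := G) V hV
    refine ⟨(i.left ≫ p).isOpenEmbedding.isInducing.isCompact_iff.2 ?_⟩
    have hsub : (i.left ≫ p).base '' Set.univ ⊆ (V : Set G.left) := by
      rintro _ ⟨y, -, rfl⟩
      refine hNV _ ((hON _ (hp (i.left.base y))).2 ?_) (hp (i.left.base y))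
      exact hr.le ⟨y, rfl⟩
    have h1 : IsCompact (V.ι.base ⁻¹' ((i.left ≫ p).base '' Set.univ)) := NoetherianSpace.isCompact _
    have h2 := h1.image V.ι.continuous
    rwa [Set.image_preimage_eq_inter_range, Scheme.Opens.range_ι, Set.inter_eq_left.2 hsub] at h2
  haveI : IsAffine (U₀ : Scheme.{u}) := hU₀
  refine ⟨U₀, ⟨s₀, hsU₀⟩, H, inst, i, hi, hio, AlgebraicGeometry.quasiCompact_of_compactSpace H.hom, inferInstance,
    hconn, ?_⟩
  rw [Scheme.Hom.comp_base, TopCat.coe_comp, Set.range_comp, hr]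
  show p.base '' (p.base ⁻¹' O) = _
  rw [Set.image_preimage_eq_inter_range, hpr]
  ext x
  exact ⟨fun h => ⟨(hON x h.2).2 h.1, h.2⟩, fun h => ⟨(hON x h.2).1 h.1, h.2⟩⟩

end Groth.Agent.H8Grp
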