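import Groth.Agent.H8Grp.Torsion
import Groth.Agent.SGA3cLib.Components
import Groth.Agent.SGA3cLib.MonoClosed
import Groth.Agent.SGA3cLib.MonoNhd
import Groth.Agent.S3039
import Mathlib.AlgebraicGeometry.AlgClosed.Basic

/-!
# Divisibility of neutral points and openness of the primary torsion locus
-/

set_option autoImplicit false
set_option maxHeartbeats 1600000
set_option backward.isDefEq.respectTransparency.types false
set_option linter.style.haveILetI false

universe u

open CategoryTheory Limits AlgebraicGeometry MonoidalCategory CartesianMonoidalCategory MonObj GrpObj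
open Topology TopologicalSpace

namespace Groth.Agent.H8Grp

variable {S : Scheme.{u}} {G : Over S} [GrpObj G]

/-- The geometric point of the base over `s`. -/
noncomputable def geo (S : Scheme.{u}) (s : S) : Spec (CommRingCat.of (AlgebraicClosure (S.residueField s))) ⟶ S :=
  Spec.map (CommRingCat.ofHom (algebraMap (S.residueField s) (AlgebraicClosure (S.residueField s)))) ≫
    S.fromSpecResidueField s

theorem geo_apply (s : S) (a : ↥(Spec (CommRingCat.of (AlgebraicClosure (S.residueField s))))) :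
    (geo S s).base a = s := by
  simp only [geo, Scheme.Hom.comp_apply]
  exact Scheme.fromSpecResidueField_apply _ _

omit [GrpObj G] in
/-- Two comparable points of the geometric fibre with the same image agree. -/
theorem eq_of_specializes_geo (s : S) {a b : (Red.bc (geo S s) G).left} (hab : a ⤳ b)
    (h : (pullback.fst G.hom (geo S s)).base a = (pullback.fst G.hom (geo S s)).base b) : a = b := by
  let j := Spec.map (CommRingCat.ofHom (algebraMap (S.residueField s) (AlgebraicClosure (S.residueField s))))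
  haveI : IsIntegralHom j := (IsIntegralHom.SpecMap_iff).2
    (algebraMap_isIntegral_iff.2 inferInstance)
  let q : pullback G.hom (geo S s) ⟶ G.hom.fiber s :=
    pullback.lift (pullback.fst G.hom (geo S s)) (pullback.snd G.hom (geo S s) ≫ j) (by
      rw [Category.assoc]; exact pullback.condition)
  have hq1 : q ≫ G.hom.fiberι s = pullback.fst G.hom (geo S s) := pullback.lift_fst _ _ _
  have hsq : IsPullback q (pullback.snd G.hom (geo S s)) (G.hom.fiberToSpecResidueField s) j := by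
    refine IsPullback.of_right ?_ (pullback.lift_snd _ _ _) (IsPullback.of_hasPullback _ _)
    rw [show q ≫ pullback.fst G.hom (S.fromSpecResidueField s) = pullback.fst G.hom (geo S s) from hq1]
    exact IsPullback.of_hasPullback G.hom (geo S s)
  haveI : IsIntegralHom q := MorphismProperty.of_isPullback hsq.flip ‹IsIntegralHom j›
  refine SGA3cLib.eq_of_specializes_of_isIntegralHom q hab ((G.hom.fiberι s).isEmbedding.injective ?_)
  rw [← Scheme.Hom.comp_apply, ← Scheme.Hom.comp_apply, hq1]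
  exact h

variable [IsLocallyNoetherian S] [LocallyOfFiniteType G.hom]

/-- A rational point of the geometric fibre from a closed point. -/
theorem exists_geo_point (s : S) (a : (Red.bc (geo S s) G).left) (ha : IsClosed {a}) :
    ∃ σ : fld (geo S s) ⟶ G, ratv σ = a := by
  haveI : LocallyOfFiniteType (Red.bc (geo S s) G).hom := MorphismProperty.pullback_snd G.hom _ inferInstance
  let t : 𝟙_ (Over (Spec (CommRingCat.of (AlgebraicClosure (S.residueField s))))) ⟶ Red.bc (geo S s) G :=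
    Over.homMk (pointOfClosedPoint (Red.bc (geo S s) G).hom a ha) (pointOfClosedPoint_comp _ _ _)
  refine ⟨(SGA3cLib.BCPoints.pt (geo S s) G _).symm t, ?_⟩
  show (SGA3cLib.BCPoints.pt (geo S s) G _ _).left.base _ = a
  rw [Equiv.apply_symm_apply]
  exact pointOfClosedPoint_apply _ _ _ _

/-- Geometric rational points are determined by their points. -/
theorem eq_of_ratv_eq (s : S) {σ τ : fld (geo S s) ⟶ G} (h : ratv σ = ratv τ) : σ = τ := by
  haveI : LocallyOfFiniteType (Red.bc (geo S s) G).hom := MorphismProperty.pullback_snd G.hom _ inferInstance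
  refine (SGA3cLib.BCPoints.pt (geo S s) G _).injective (Over.OverMorphism.ext ?_)
  exact ext_of_apply_closedPoint_eq (Red.bc (geo S s) G).hom (Over.w (SGA3cLib.BCPoints.pt (geo S s) G _ σ))
    (Over.w (SGA3cLib.BCPoints.pt (geo S s) G _ τ)) h

/-- Neutral geometric points are divisible by any exponent whose power map is open. -/
theorem exists_root [IsCommMonObj G] (s : S) (M : ℕ) (hM : IsOpenMap ((𝟙 G : G ⟶ G) ^ M).left.base)
    (v : fld (geo S s) ⟶ G) (hv : ptv v ∈ SGA3x.neutralSet G) :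
    ∃ w : fld (geo S s) ⟶ G, ptv w ∈ SGA3x.neutralSet G ∧ w ^ M = v := by
  let ω := geo S s
  let H := Red.bc ω G
  haveI : LocallyOfFiniteType H.hom := MorphismProperty.pullback_snd G.hom _ inferInstance
  haveI : IsLocallyNoetherian H.left := LocallyOfFiniteType.isLocallyNoetherian H.hom
  haveI : JacobsonSpace ↥H.left := LocallyOfFiniteType.jacobsonSpace H.hom
  let p : H.left ⟶ G.left := pullback.fst G.hom ω
  let e : H.left := ratv (1 : fld ω ⟶ G)
  let C := connectedComponent e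
  obtain ⟨Θ, hΘ, hΘe⟩ := VarietyLib.exists_genericPoints_specializes e
  have hC : C = closure {Θ} := S3039.connectedComponent_eq _ H H (SGA3cLib.regAction H)
    (SGA3cLib.surjective_regAction H) e Θ hΘ hΘe
  have hCo : IsOpen C := SGA3cLib.isOpen_connectedComponent e
  have hpC : ∀ a, p.base a ∈ SGA3x.neutralSet G ↔ a ∈ C := by
    intro a
    rw [← Set.mem_preimage, ← S5322.result]
    haveI : Subsingleton ↥(Spec (CommRingCat.of (AlgebraicClosure (S.residueField s)))) :=
      inferInstanceAs (Subsingleton (PrimeSpectrum (AlgebraicClosure (S.residueField s))))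
    have huniv : ∀ q, H.hom.base ⁻¹' {q} = Set.univ := fun q =>
      Set.eq_univ_of_forall fun z => Subsingleton.elim (α := ↥(Spec (CommRingCat.of (AlgebraicClosure (S.residueField s))))) _ _
    have h1 : SGA3cLib.BCPoints.pt ω G (𝟙_ _) (1 : fld ω ⟶ G) = η[H] := by
      have : SGA3cLib.BCPoints.pt ω G (𝟙_ _) (1 : fld ω ⟶ G) = 1 :=
        map_one (MonoidHom.mk' (SGA3cLib.BCPoints.pt ω G (𝟙_ (Over (Spec (CommRingCat.of (AlgebraicClosure (S.residueField s)))))))
          (SGA3cLib.BCPoints.pt_mul ω))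
      rw [this, Hom.one_def, toUnit_unique (toUnit (𝟙_ _)) (𝟙 _), Category.id_comp]
    have he : ∀ q, η[H].left.base q = e := fun q => by
      show _ = (SGA3cLib.BCPoints.pt ω G (𝟙_ _) (1 : fld ω ⟶ G)).left.base _
      rw [h1, Subsingleton.elim (α := ↥(Spec (CommRingCat.of (AlgebraicClosure (S.residueField s))))) q (IsLocalRing.closedPoint _)]
    show a ∈ ⋃ q, connectedComponentIn _ _ ↔ _
    have hcc : ∀ q : ↥(𝟙_ (Over (Spec (CommRingCat.of (AlgebraicClosure (S.residueField s)))))).left,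
        connectedComponentIn (H.hom.base ⁻¹' {(𝟙_ (Over (Spec (CommRingCat.of (AlgebraicClosure (S.residueField s)))))).hom.base q})
          (η[H].left.base q) = C := fun q =>
      (congrArg₂ connectedComponentIn (huniv _) (he q)).trans (connectedComponentIn_univ e)
    rw [Set.mem_iUnion]
    exact ⟨fun ⟨q, hq⟩ => (Set.ext_iff.1 (hcc q) a).1 hq,
      fun h => ⟨IsLocalRing.closedPoint _, (Set.ext_iff.1 (hcc _) a).2 h⟩⟩
  -- the power map upstairs
  let m : H ⟶ H := (Over.pullback ω).map ((𝟙 G : G ⟶ G) ^ M)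
  have hmp : m.left ≫ p = p ≫ ((𝟙 G : G ⟶ G) ^ M).left := pullback.lift_fst _ _ _
  have hmpt : ∀ σ : fld ω ⟶ G, m.left.base (ratv σ) = ratv (σ ^ M) := fun σ => by
    have h1 := SGA3cLib.BCPoints.pt_comp ω (X' := 𝟙_ _) σ ((𝟙 G : G ⟶ G) ^ M)
    rw [MonObj.comp_pow, Category.comp_id] at h1
    show _ = (SGA3cLib.BCPoints.pt ω G _ (σ ^ M)).left.base _
    rw [h1]
    rfl
  have hmC : Set.MapsTo m.left.base C C := fun a ha => by
    have h1 := hmpt 1
    rw [one_pow] at h1
    show m.left.base a ∈ connectedComponent e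
    rw [show e = m.left.base e from h1.symm]
    exact m.left.continuous.image_connectedComponent_subset _ ⟨a, ha, rfl⟩
  -- the generic point is a power
  obtain ⟨ζ, hζC, hζ⟩ : ∃ ζ ∈ C, m.left.base ζ = Θ := by
    obtain ⟨U₀, O, hsU, hO⟩ := exists_open_neutral (G := G) s
    have hOs : ∀ x, G.hom.base x = s → (x ∈ SGA3x.neutralSet G ↔ x ∈ O) := fun x hx =>
      hO x (by rw [hx]; exact hsU) (by rw [hx])
    have hps : ∀ a, G.hom.base (p.base a) = s := fun a => by
      rw [← Scheme.Hom.comp_apply, show p ≫ G.hom = H.hom ≫ ω from pullback.condition]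
      exact geo_apply s _
    let P := p.base ⁻¹' (((𝟙 G : G ⟶ G) ^ M).left.base '' (O : Set G.left)) ∩ C
    have hPo : IsOpen P := ((hM _ O.isOpen).preimage p.continuous).inter hCo
    have hPe : e ∈ P := ⟨⟨ptv (1 : fld ω ⟶ G), (hOs _ ((hom_ptv _).trans (geo_apply s _))).1 one_mem_neutralSet, by
      show _ = p.base e
      rw [ptv_pow, one_pow]; exact (fst_ratv _).symm⟩, mem_connectedComponent⟩
    have hΘP : Θ ∈ P := hΘe.mem_open hPo hPe
    obtain ⟨w₀, hw₀O, hw₀⟩ := hΘP.1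
    have hw₀s : G.hom.base w₀ = s := by rw [← hom_pow M, hw₀]; exact hps Θ
    obtain ⟨ζ, hζ⟩ : w₀ ∈ Set.range p.base := by
      rw [show Set.range p.base = G.hom.base ⁻¹' Set.range ω.base from Scheme.Pullback.range_fst G.hom ω]
      exact ⟨IsLocalRing.closedPoint _, (geo_apply s _).trans hw₀s.symm⟩
    have hζC : ζ ∈ C := (hpC ζ).1 (by rw [hζ]; exact (hOs _ hw₀s).2 hw₀O)
    refine ⟨ζ, hζC, (eq_of_specializes_geo (G := G) s
      (specializes_iff_mem_closure.2 (hC ▸ hmC hζC : m.left.base ζ ∈ closure {Θ})) ?_).symm⟩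
    show p.base Θ = (m.left ≫ p).base ζ
    rw [hmp, Scheme.Hom.comp_apply, hζ, hw₀]
  -- the image contains a nonempty open
  obtain ⟨B, hB, hΘB, -⟩ := exists_isAffineOpen_mem_and_subset (U := ⊤) (x := Θ) trivial
  obtain ⟨A, hA, hζA, hAsub⟩ := exists_isAffineOpen_mem_and_subset (U := (⟨C, hCo⟩ : H.left.Opens) ⊓ m.left ⁻¹ᵁ B)
    (x := ζ) ⟨hζC, by show m.left.base ζ ∈ B; rw [hζ]; exact hΘB⟩
  obtain ⟨U, hU, hΘU, hUI⟩ : ∃ U : Set H.left, IsOpen U ∧ Θ ∈ U ∧ ∀ a ∈ U, a ∈ C → a ∈ m.left.base '' C := by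
    haveI : IsAffine (A : Scheme.{u}) := hA
    haveI : IsAffine (B : Scheme.{u}) := hB
    let g : (A : Scheme.{u}) ⟶ (B : Scheme.{u}) := m.left.resLE B A fun a ha => (hAsub ha).2
    haveI : LocallyOfFiniteType (g ≫ B.ι ≫ H.hom) := by
      rw [Scheme.Hom.resLE_comp_ι_assoc, Over.w m]; infer_instance
    haveI : LocallyOfFiniteType g := locallyOfFiniteType_of_comp g (B.ι ≫ H.hom)
    haveI : QuasiCompact g := AlgebraicGeometry.quasiCompact_of_compactSpace g
    haveI : IsLocallyNoetherian (B : Scheme.{u}) := LocallyOfFiniteType.isLocallyNoetherian (B.ι ≫ H.hom)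
    haveI : LocallyOfFinitePresentation g := Coherent.CohBC.locallyOfFinitePresentation_of_isLocallyNoetherian g
    have hgval : ∀ a, B.ι.base (g.base a) = m.left.base (A.ι.base a) := fun a => by
      rw [← Scheme.Hom.comp_apply, Scheme.Hom.resLE_comp_ι, Scheme.Hom.comp_apply]
    obtain ⟨U, hU, hΘU, h⟩ := exists_open_const_of_isConstructible
      (g.isConstructible_image (s := Set.univ) IsConstructible.univ) ⟨Θ, hΘB⟩
    have hin : (⟨Θ, hΘB⟩ : ↥(B : Scheme.{u})) ∈ g.base '' Set.univ :=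
      ⟨⟨ζ, hζA⟩, trivial, Subtype.ext ((hgval _).trans hζ)⟩
    have h' := h.resolve_right fun h => h _ hΘU specializes_rfl hin
    refine ⟨B.ι.base '' U, B.ι.isOpenEmbedding.isOpenMap _ hU, ⟨_, hΘU, rfl⟩, ?_⟩
    rintro _ ⟨b, hb, rfl⟩ hbC
    rw [hC] at hbC
    obtain ⟨a, -, ha⟩ := h' b hb (B.ι.isEmbedding.isInducing.specializes_iff.1 (specializes_iff_mem_closure.2 hbC))
    exact ⟨A.ι.base a, (hAsub a.2).1, by rw [← hgval, ha]⟩
  -- every rational point of the component is a product of two points of the open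
  let vH := SGA3cLib.BCPoints.pt ω G _ v
  let d : H ⟶ H := (toUnit H ≫ vH) * (𝟙 H)⁻¹
  let d' : H ⟶ H := (𝟙 H)⁻¹ * (toUnit H ≫ vH)
  have htu : ∀ {T : Over (Spec (CommRingCat.of (AlgebraicClosure (S.residueField s))))} (k : T ⟶ H),
      k ≫ toUnit H ≫ vH = toUnit T ≫ vH := fun k => by rw [← Category.assoc, toUnit_unique (k ≫ toUnit H) (toUnit _)]
  have hd : d' ≫ d = 𝟙 H := by
    simp only [d, d', MonObj.comp_mul, GrpObj.comp_inv, htu, Category.comp_id]
    group
  have hdv : ∀ σ : fld ω ⟶ G, d.left.base (ratv σ) = ratv (v * σ⁻¹) ∧ d'.left.base (ratv σ) = ratv (σ⁻¹ * v) := by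
    intro σ
    constructor
    · rw [ratv_mul, SGA3cLib.BCPoints.pt_inv]
      show (SGA3cLib.BCPoints.pt ω G _ σ ≫ d).left.base _ = _
      simp only [d, MonObj.comp_mul, GrpObj.comp_inv, htu, Category.comp_id,
        toUnit_unique (toUnit (𝟙_ (Over (Spec (CommRingCat.of (AlgebraicClosure (S.residueField s))))))) (𝟙 _),
        Category.id_comp]
      rfl
    · rw [ratv_mul, SGA3cLib.BCPoints.pt_inv]
      show (SGA3cLib.BCPoints.pt ω G _ σ ≫ d').left.base _ = _
      simp only [d', MonObj.comp_mul, GrpObj.comp_inv, htu, Category.comp_id,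
        toUnit_unique (toUnit (𝟙_ (Over (Spec (CommRingCat.of (AlgebraicClosure (S.residueField s))))))) (𝟙 _),
        Category.id_comp]
      rfl
  have hvC : ratv v ∈ C := (mem_neutralSet_iff v).1 hv
  have hd'C : Set.MapsTo d'.left.base C C := fun a ha => by
    have h1 := (hdv 1).2
    rw [inv_one, _root_.one_mul] at h1
    show d'.left.base a ∈ connectedComponent e
    rw [connectedComponent_eq hvC, ← h1]
    exact d'.left.continuous.image_connectedComponent_subset _ ⟨a, ha, rfl⟩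
  have hne : ((U ∩ C) ∩ (d.left.base ⁻¹' (U ∩ C) ∩ C)).Nonempty := by
    have hc : Θ ∈ C := hC ▸ subset_closure rfl
    have h2 : (d.left.base ⁻¹' (U ∩ C) ∩ C).Nonempty := ⟨d'.left.base Θ, by
      show (d' ≫ d).left.base Θ ∈ U ∩ C
      rw [hd]; exact ⟨hΘU, hc⟩, hd'C hc⟩
    have h3 : Θ ∈ d.left.base ⁻¹' (U ∩ C) ∩ C := by
      obtain ⟨z, hz⟩ := h2
      exact (specializes_iff_mem_closure.2 (hC ▸ hz.2 : z ∈ closure {Θ})).mem_open
        (((hU.inter hCo).preimage d.left.continuous).inter hCo) hz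
    exact ⟨Θ, ⟨hΘU, hc⟩, h3⟩
  obtain ⟨a, ⟨⟨haU, haC⟩, haD, -⟩, hac⟩ := nonempty_inter_closedPoints hne
    (((hU.inter hCo).inter (((hU.inter hCo).preimage d.left.continuous).inter hCo)).isLocallyClosed)
  obtain ⟨σ, rfl⟩ := exists_geo_point (G := G) s a hac
  have key : ∀ τ : fld ω ⟶ G, ratv τ ∈ U → ratv τ ∈ C →
      ∃ w : fld ω ⟶ G, ptv w ∈ SGA3x.neutralSet G ∧ w ^ M = τ := by
    intro τ hτU hτC
    obtain ⟨b, hbC, hb⟩ := hUI _ hτU hτC
    have hclosed : IsClosed ({ratv τ} : Set H.left) :=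
      ((pointEquivClosedPoint H.hom) ⟨(SGA3cLib.BCPoints.pt ω G _ τ).left, Over.w _⟩).2
    obtain ⟨c, ⟨hcC, hcm⟩, hcc⟩ := nonempty_inter_closedPoints (Z := C ∩ m.left.base ⁻¹' {ratv τ}) ⟨b, hbC, hb⟩
      (isClosed_connectedComponent.inter (hclosed.preimage m.left.continuous)).isLocallyClosed
    obtain ⟨w, rfl⟩ := exists_geo_point (G := G) s c hcc
    exact ⟨w, (mem_neutralSet_iff w).2 hcC, eq_of_ratv_eq s ((hmpt w).symm.trans hcm)⟩
  obtain ⟨w₁, hw₁, hw₁e⟩ := key σ haU haC
  obtain ⟨w₂, hw₂, hw₂e⟩ := key (v * σ⁻¹) ((hdv σ).1 ▸ haD.1) ((hdv σ).1 ▸ haD.2)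
  refine ⟨w₂ * w₁, mul_mem_neutralSet hw₂ hw₁, ?_⟩
  rw [mul_pow, hw₂e, hw₁e, inv_mul_cancel_right]

/-- Translates of neutral points over an affine open stay in a quasi-compact open. -/
theorem exists_compact_translates (U : S.Opens) (hU : IsAffineOpen U) (P : Finset G.left)
    (hP : ∀ x ∈ P, G.hom.base x ∈ U) :
    ∃ V : G.left.Opens, IsCompact (V : Set G.left) ∧
      ∀ {K : Type u} [Field K] {ω : Spec (CommRingCat.of K) ⟶ S} (a b : fld ω ⟶ G),
        ptv a ∈ P → ptv b ∈ SGA3x.neutralSet G → ptv (a * b) ∈ V := by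
  obtain ⟨V₁, hV₁, hV₁U, hNV⟩ := exists_compact_supset (G := G) U hU
  choose A hA hxA hAU using fun x : P => exists_isAffineOpen_mem_and_subset (U := G.hom ⁻¹ᵁ U) (x := x.1) (hP x.1 x.2)
  let W : G.left.Opens := V₁ ⊔ ⨆ x : P, A x
  have hW : IsCompact (W : Set G.left) := by
    simp only [W, TopologicalSpace.Opens.coe_sup, TopologicalSpace.Opens.coe_iSup]
    exact hV₁.union (isCompact_iUnion fun x => (hA x).isCompact)
  have hWU : W ≤ G.hom ⁻¹ᵁ U := sup_le hV₁U (iSup_le fun x => hAU x)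
  haveI : IsAffine (U : Scheme.{u}) := hU
  haveI : CompactSpace ↥(W : Scheme.{u}) := isCompact_iff_compactSpace.mp hW
  let g : (W : Scheme.{u}) ⟶ (U : Scheme.{u}) := IsOpenImmersion.lift U.ι (W.ι ≫ G.hom) (by
    rintro _ ⟨v, rfl⟩
    rw [Scheme.Opens.range_ι]
    exact hWU v.2)
  haveI : QuasiCompact g := AlgebraicGeometry.quasiCompact_of_compactSpace g
  haveI : QuasiCompact (pullback.fst g g) := MorphismProperty.pullback_fst (P := @QuasiCompact) _ _ ‹QuasiCompact g›
  haveI : CompactSpace ↥(pullback g g) := QuasiCompact.compactSpace_of_compactSpace (pullback.fst g g)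
  have hg : g ≫ U.ι = W.ι ≫ G.hom := IsOpenImmersion.lift_fac _ _ _
  let r : Over.mk (pullback.fst g g ≫ g ≫ U.ι) ⟶ G :=
    Over.homMk (U := Over.mk (pullback.fst g g ≫ g ≫ U.ι)) (pullback.fst g g ≫ W.ι) (by
      show (pullback.fst g g ≫ W.ι) ≫ G.hom = pullback.fst g g ≫ g ≫ U.ι
      rw [Category.assoc, ← hg]) *
    Over.homMk (U := Over.mk (pullback.fst g g ≫ g ≫ U.ι)) (pullback.snd g g ≫ W.ι) (by
      show (pullback.snd g g ≫ W.ι) ≫ G.hom = pullback.fst g g ≫ g ≫ U.ι
      rw [Category.assoc, ← hg, ← pullback.condition_assoc])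
  haveI : CompactSpace ↥(Over.mk (pullback.fst g g ≫ g ≫ U.ι)).left := inferInstanceAs (CompactSpace ↥(pullback g g))
  obtain ⟨V, hV, hsub⟩ : ∃ V : G.left.Opens, IsCompact (V : Set G.left) ∧ Set.range r.left.base ⊆ V := by
    obtain ⟨t, ht⟩ := (isCompact_range r.left.continuous).elim_finite_subcover
      (fun B : {B : G.left.Opens // IsAffineOpen B} => (B.1 : Set G.left)) (fun B => B.1.isOpen) (by
        rintro x -
        obtain ⟨B, hB, hxB, -⟩ := exists_isAffineOpen_mem_and_subset (U := ⊤) (x := x) trivial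
        exact Set.mem_iUnion.2 ⟨⟨B, hB⟩, hxB⟩)
    refine ⟨⨆ B ∈ t, B.1, ?_, fun x hx => ?_⟩
    · simp only [TopologicalSpace.Opens.coe_iSup]
      exact t.finite_toSet.isCompact_biUnion fun B _ => B.2.isCompact
    · obtain ⟨B, hB, hxB⟩ := Set.mem_iUnion₂.1 (ht hx)
      exact TopologicalSpace.Opens.mem_iSup.2 ⟨B, TopologicalSpace.Opens.mem_iSup.2 ⟨hB, hxB⟩⟩
  refine ⟨V, hV, ?_⟩
  intro K _ ω a b ha hb
  have hWsub : ∀ c : fld ω ⟶ G, ptv c ∈ W → Set.range c.left.base ⊆ Set.range W.ι.base := by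
    rintro c hc _ ⟨o, rfl⟩
    rw [Scheme.Opens.range_ι, Subsingleton.elim (α := PrimeSpectrum K) o (IsLocalRing.closedPoint K)]
    exact hc
  have haW : ptv a ∈ W := (le_sup_right : _ ≤ W) (TopologicalSpace.Opens.mem_iSup.2 ⟨⟨_, ha⟩, hxA ⟨_, ha⟩⟩)
  have hbW : ptv b ∈ W := (le_sup_left : V₁ ≤ W) (hNV _ hb (by
    rw [hom_ptv, ← hom_ptv a]; exact hP _ ha))
  let a' := IsOpenImmersion.lift W.ι a.left (hWsub a haW)
  let b' := IsOpenImmersion.lift W.ι b.left (hWsub b hbW)
  have hab : a' ≫ g = b' ≫ g := by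
    rw [← cancel_mono U.ι, Category.assoc, Category.assoc, hg, IsOpenImmersion.lift_fac_assoc,
      IsOpenImmersion.lift_fac_assoc, Over.w a, Over.w b]
  let k : fld ω ⟶ Over.mk (pullback.fst g g ≫ g ≫ U.ι) := Over.homMk (pullback.lift a' b' hab) (by
    show pullback.lift a' b' hab ≫ pullback.fst g g ≫ g ≫ U.ι = _
    rw [pullback.lift_fst_assoc, hg, IsOpenImmersion.lift_fac_assoc, Over.w a])
  have hk : k ≫ r = a * b := by
    rw [MonObj.comp_mul]
    congr 1 <;> ext : 1
    · show pullback.lift a' b' hab ≫ pullback.fst g g ≫ W.ι = _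
      rw [pullback.lift_fst_assoc, IsOpenImmersion.lift_fac]
    · show pullback.lift a' b' hab ≫ pullback.snd g g ≫ W.ι = _
      rw [pullback.lift_snd_assoc, IsOpenImmersion.lift_fac]
  rw [← hk]
  exact hsub ⟨k.left.base (IsLocalRing.closedPoint K), rfl⟩

/-- Openness of the primary torsion locus. -/
theorem isOpen_primary [IsCommMonObj G] (p : ℕ) (hp : p = 1 ∨ p.Prime)
    (hopen : ∀ n : ℕ, 0 < n → Nat.Coprime n p → IsOpenMap ((𝟙 G : G ⟶ G) ^ n).left.base) :
    IsOpen {x : G.left | ∃ h : ℕ, x ∈ torN G (p ^ h)} := by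
  refine isOpen_iff_mem_nhds.2 fun x hx => ?_
  obtain ⟨W, hW, hxW⟩ := exists_compact_opens x
  haveI := noetherianSpace_opens W hW
  obtain ⟨N, hN, hb⟩ := exists_bound W hW
  have hppos : 0 < p := by rcases hp with rfl | hp; exacts [one_pos, hp.pos]
  let E : Set ↥(W : Scheme.{u}) := W.ι.base ⁻¹' {y : G.left | ∃ h : ℕ, y ∈ torN G (p ^ h)}
  have hE : IsConstructible E := by
    have : E = Subtype.val ⁻¹' torN G (p ^ N.factorization p) := by
      ext y
      refine ⟨fun ⟨h, hy⟩ => ?_, fun hy => ⟨_, hy⟩⟩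
      have hg := pow_gcd_mem hy (hb _ y.2 _ (pow_pos hppos h) hy)
      rcases hp with rfl | hp
      · rw [one_pow] at hy ⊢; exact hy
      obtain ⟨i, -, hi⟩ := (Nat.dvd_prime_pow hp).1 (Nat.gcd_dvd_left (p ^ h) N)
      rw [hi] at hg
      exact pow_mem_of_dvd (pow_dvd_pow _ ((hp.pow_dvd_iff_le_factorization hN.ne').1 (hi ▸ Nat.gcd_dvd_right _ N))) hg
    rw [this]
    exact isConstructible_torN W hW _
  have hgen : StableUnderGeneralization E := by
    rintro ⟨x, hxW'⟩ ⟨z, hzW'⟩ hzx' ⟨h, hxh⟩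
    have hzx : z ⤳ x := hzx'.map W.ι.continuous
    show ∃ h : ℕ, z ∈ torN G (p ^ h)
    set s := G.hom.base x with hs
    -- move to a closed point of the fibre
    haveI : LocallyOfFiniteType (Red.bc (geo S s) G).hom := MorphismProperty.pullback_snd G.hom _ inferInstance
    haveI : JacobsonSpace ↥(Red.bc (geo S s) G).left := LocallyOfFiniteType.jacobsonSpace (Red.bc (geo S s) G).hom
    obtain ⟨a₀, ha₀⟩ : x ∈ Set.range (pullback.fst G.hom (geo S s)).base := by
      rw [show Set.range (pullback.fst G.hom (geo S s)).base = G.hom.base ⁻¹' Set.range (geo S s).base from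
        Scheme.Pullback.range_fst G.hom (geo S s)]
      exact ⟨IsLocalRing.closedPoint _, geo_apply s _⟩
    obtain ⟨a, ha, hac⟩ := nonempty_inter_closedPoints (Z := closure ({a₀} : Set (Red.bc (geo S s) G).left))
      ⟨a₀, subset_closure rfl⟩ isClosed_closure.isLocallyClosed
    obtain ⟨σ, rfl⟩ := exists_geo_point (G := G) s a hac
    have hxs : x ⤳ ptv σ := by
      have : a₀ ⤳ ratv σ := specializes_iff_mem_closure.2 ha
      exact fst_ratv σ ▸ ha₀ ▸ this.map (pullback.fst G.hom (geo S s)).continuous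
    have hσs : G.hom.base (ptv σ) = s := (hom_ptv _).trans (geo_apply s _)
    have hσh : ptv (σ ^ (p ^ h)) ∈ SGA3x.neutralSet G := by
      rw [← ptv_pow]
      obtain ⟨U₀, O, hsU, hO⟩ := exists_open_neutral (G := G) s
      have h1 : ((𝟙 G : G ⟶ G) ^ p ^ h).left.base x ⤳ ((𝟙 G : G ⟶ G) ^ p ^ h).left.base (ptv σ) :=
        hxs.map ((𝟙 G : G ⟶ G) ^ p ^ h).left.continuous
      -- the neutral component is closed in its fibre
      have hF : ∀ y, G.hom.base y = s → ∀ y', y' ⤳ y → G.hom.base y' = s → y' ∈ SGA3x.neutralSet G →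
          y ∈ SGA3x.neutralSet G := by
        intro y hy y' hyy hy' hN'
        have hy'C : y' ∈ connectedComponentIn (G.hom.base ⁻¹' {s}) (η[G].left.base s) :=
          (neutralSet_inter_fibre s).le ⟨hN', hy'⟩
        refine ((neutralSet_inter_fibre s).ge ?_).1
        rw [connectedComponentIn_eq_image (F := G.hom.base ⁻¹' {s}) (hom_one (G := G) s)] at hy'C ⊢
        obtain ⟨c, hc, rfl⟩ := hy'C
        exact ⟨⟨y, hy⟩, ((IsInducing.subtypeVal.specializes_iff (y := (⟨y, hy⟩ : ↥(G.hom.base ⁻¹' {s})))).1 hyy).mem_closed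
          isClosed_connectedComponent hc, rfl⟩
      exact hF _ (by rw [hom_pow, hσs]) _ h1 (by rw [hom_pow]) hxh
    -- the quasi-compact open
    obtain ⟨U, hU, hsU, -⟩ := exists_isAffineOpen_mem_and_subset (U := ⊤) (x := s) trivial
    classical
    obtain ⟨V, hV, hmul⟩ := exists_compact_translates (G := G) U hU
      ((Finset.range (p ^ h + 1)).image fun j => ptv (σ ^ j)) (by
        intro y hy
        obtain ⟨j, -, rfl⟩ := Finset.mem_image.1 hy
        rw [hom_ptv, geo_apply]; exact hsU)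
    obtain ⟨B, hB, hB'⟩ := exists_bound V hV
    obtain ⟨e, M, hMco, hBM⟩ : ∃ e M : ℕ, Nat.Coprime M p ∧ B = p ^ e * M := by
      rcases hp with rfl | hp
      · exact ⟨0, B, Nat.coprime_one_right _, by rw [pow_zero, _root_.one_mul]⟩
      · obtain ⟨e, M, hM, hBM⟩ := Nat.exists_eq_pow_mul_and_not_dvd hB.ne' p hp.ne_one
        exact ⟨e, M, Nat.Coprime.symm ((Nat.Prime.coprime_iff_not_dvd hp).2 hM), hBM⟩
    have hMpos : 0 < M := by
      rcases Nat.eq_zero_or_pos M with h0 | h0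
      · simp [h0] at hBM; omega
      · exact h0
    have hMo := hopen M hMpos hMco
    -- an M-th root of σ
    obtain ⟨j, c, hjc⟩ : ∃ j c : ℕ, j * M = 1 + c * p ^ h := by
      rcases Nat.eq_zero_or_pos h with h0 | h0
      · exact ⟨1, M - 1, by rw [h0, pow_zero]; omega⟩
      by_cases hq : p ^ h = 1
      · exact ⟨1, M - 1, by rw [hq]; omega⟩
      obtain ⟨j, -, hj⟩ := Nat.exists_mul_mod_eq_one_of_coprime (Nat.Coprime.pow_right h hMco)
        (by have := pow_pos hppos h; omega)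
      refine ⟨j, j * M / p ^ h, ?_⟩
      have := Nat.div_add_mod (j * M) (p ^ h)
      rw [mul_comm j M, hj] at this
      rw [mul_comm j M, mul_comm (M * j / p ^ h)]
      omega
    have hu : ptv (σ ^ (c * p ^ h)) ∈ SGA3x.neutralSet G := by
      rw [← ptv_pow]
      exact pow_mem_of_dvd (dvd_mul_left _ c) (by rw [ptv_pow]; exact hσh)
    obtain ⟨w, hw, hwM⟩ := exists_root s M hMo (σ ^ (c * p ^ h)) hu
    let τ := σ ^ j * w⁻¹
    have hτM : τ ^ M = σ := by
      rw [mul_pow, inv_pow, hwM, ← pow_mul, hjc, pow_add, pow_one, mul_inv_cancel_right]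
    have hτV : ptv τ ∈ V := by
      have hj : σ ^ j = σ ^ (j % p ^ h) * (σ ^ (p ^ h)) ^ (j / p ^ h) := by
        rw [← pow_mul, ← pow_add, Nat.mod_add_div]
      show ptv (σ ^ j * w⁻¹) ∈ V
      rw [hj, _root_.mul_assoc]
      refine hmul _ _ (Finset.mem_image.2 ⟨_, Finset.mem_range.2 ?_, rfl⟩) (mul_mem_neutralSet ?_ (inv_mem_neutralSet hw))
      · exact Nat.lt_succ_of_le (Nat.mod_lt j (pow_pos hppos h)).le
      · rw [← pow_mul, ← ptv_pow]
        exact pow_mem_of_dvd (dvd_mul_right _ _) (by rw [ptv_pow]; exact hσh)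
    have hτtor : ∃ n : ℕ, 0 < n ∧ ptv τ ∈ torN G n := ⟨M * p ^ h, Nat.mul_pos hMpos (pow_pos hppos h), by
      show ((𝟙 G : G ⟶ G) ^ (M * p ^ h)).left.base (ptv τ) ∈ SGA3x.neutralSet G
      rw [ptv_pow, pow_mul, hτM]; exact hσh⟩
    -- lift the generization
    have himg : ptv σ ∈ ((𝟙 G : G ⟶ G) ^ M).left.base ''
        ((V : Set G.left) ∩ {y : G.left | ∃ n : ℕ, 0 < n ∧ y ∈ torN G n}) :=
      ⟨ptv τ, ⟨hτV, hτtor⟩, by rw [ptv_pow, hτM]⟩
    obtain ⟨z₁, ⟨hz₁V, n, hn, hz₁n⟩, rfl⟩ :=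
      (hzx.trans hxs).mem_open (hMo _ (V.isOpen.inter (isOpen_torsion (G := G)))) himg
    refine ⟨e, ?_⟩
    have h2 := hB' z₁ hz₁V n hn hz₁n
    obtain ⟨υ, hυ⟩ := exists_ptv z₁
    show ((𝟙 G : G ⟶ G) ^ p ^ e).left.base (((𝟙 G : G ⟶ G) ^ M).left.base z₁) ∈ SGA3x.neutralSet G
    change ((𝟙 G : G ⟶ G) ^ B).left.base z₁ ∈ SGA3x.neutralSet G at h2
    rw [← hυ, ptv_pow, hBM] at h2
    rw [← hυ, ptv_pow, ptv_pow, ← pow_mul, mul_comm]
    exact h2
  have ho := H8Top.isOpen_of_isConstructible_of_stableUnderGeneralization (X := ↥(W : Scheme.{u})) hE hgen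
  exact Filter.mem_of_superset ((W.ι.isOpenEmbedding.isOpenMap _ ho).mem_nhds ⟨⟨x, hxW⟩, hx, rfl⟩)
    (by rintro _ ⟨y, hy, rfl⟩; exact hy)

end Groth.Agent.H8Grp
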