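import Groth.Agent.H8Grp.NeutralOpen
import Groth.Agent.H8Top.Noetherian

/-!
# Torsion modulo the neutral components
-/

set_option autoImplicit false
set_option maxHeartbeats 1600000
set_option backward.isDefEq.respectTransparency.types false
set_option linter.style.haveILetI false

universe u

open CategoryTheory Limits AlgebraicGeometry MonoidalCategory CartesianMonoidalCategory MonObj GrpObj
open Topology TopologicalSpace

namespace Groth.Agent.H8Grp

variable {S : Scheme.{u}} {G : Over S} [GrpObj G]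

/-- The points whose `n`-th power is neutral. -/
def torN (G : Over S) [GrpObj G] (n : ℕ) : Set G.left :=
  {x | ((𝟙 G : G ⟶ G) ^ n).left.base x ∈ SGA3x.neutralSet G}

theorem hom_pow (n : ℕ) (x : G.left) : G.hom.base (((𝟙 G : G ⟶ G) ^ n).left.base x) = G.hom.base x := by
  rw [← Scheme.Hom.comp_apply, Over.w]

theorem torN_one : torN G 1 = SGA3x.neutralSet G := by
  ext x
  show ((𝟙 G : G ⟶ G) ^ 1).left.base x ∈ SGA3x.neutralSet G ↔ _
  rw [pow_one]
  exact Iff.rfl

/-- The neutral components are closed under all powers. -/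
theorem pow_mem_of_mem {x : G.left} (hx : x ∈ SGA3x.neutralSet G) (b : ℕ) :
    ((𝟙 G : G ⟶ G) ^ b).left.base x ∈ SGA3x.neutralSet G :=
  pow_mem_of_dvd (one_dvd b) (by rw [pow_one]; exact hx)

variable [IsLocallyNoetherian S] [LocallyOfFiniteType G.hom]

theorem noetherianSpace_opens (W : G.left.Opens) (hW : IsCompact (W : Set G.left)) :
    NoetherianSpace ↥(W : Scheme.{u}) := by
  haveI : CompactSpace ↥(W : Scheme.{u}) := isCompact_iff_compactSpace.mp hW
  haveI : IsLocallyNoetherian (W : Scheme.{u}) := LocallyOfFiniteType.isLocallyNoetherian (W.ι ≫ G.hom)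
  haveI : AlgebraicGeometry.IsNoetherian (W : Scheme.{u}) := {}
  infer_instance

/-- Properties holding near each point on its closure hold on quasi-compact opens. -/
theorem induction_opens (W : G.left.Opens) (hW : IsCompact (W : Set G.left))
    {p : Set ↥(W : Scheme.{u}) → Prop} (h0 : p ∅) (hu : ∀ A B, p A → p B → p (A ∪ B))
    (hloc : ∀ x : ↥(W : Scheme.{u}), ∃ U : Set ↥(W : Scheme.{u}), IsOpen U ∧ x ∈ U ∧ p (U ∩ closure {x})) :
    p Set.univ := by
  haveI := noetherianSpace_opens W hW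
  refine H8Top.closed_induction (motive := p) h0 (fun A B _ _ => hu A B) (fun Y hY hYi ih => ?_) _ isClosed_univ
  obtain ⟨ξ, hξ⟩ := QuasiSober.sober hYi hY
  obtain ⟨U, hU, hξU, hp⟩ := hloc ξ
  rw [hξ.def] at hp
  have hY' : Y = U ∩ Y ∪ Y \ U := by rw [Set.inter_comm, Set.inter_union_sdiff]
  rw [hY']
  exact hu _ _ hp (ih _ (hY.sdiff hU) (H8Top.sdiff_ssubset_of_inter_nonempty ⟨ξ, hξU, hξ.mem⟩))

/-- The trace of `torN n` near a point on its closure. -/
theorem exists_open_torN (x : G.left) :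
    ∃ U : G.left.Opens, x ∈ U ∧ ∀ n : ℕ, ∃ O : G.left.Opens,
      ∀ y ∈ U, x ⤳ y → (y ∈ torN G n ↔ y ∈ O) := by
  obtain ⟨U₀, O, hxU, h⟩ := exists_open_neutral (G := G) (G.hom.base x)
  refine ⟨G.hom ⁻¹ᵁ U₀, hxU, fun n => ⟨((𝟙 G : G ⟶ G) ^ n).left ⁻¹ᵁ O, fun y hy hxy => ?_⟩⟩
  exact h _ (by rw [hom_pow]; exact hy) (by rw [hom_pow]; exact hxy.map G.hom.continuous)

/-- On a quasi-compact open the torsion has bounded order. -/
theorem exists_bound (W : G.left.Opens) (hW : IsCompact (W : Set G.left)) :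
    ∃ N : ℕ, 0 < N ∧ ∀ x ∈ W, ∀ n : ℕ, 0 < n → x ∈ torN G n → x ∈ torN G N := by
  have key := induction_opens W hW (p := fun A => ∃ N : ℕ, 0 < N ∧ ∀ x ∈ A, ∀ n : ℕ, 0 < n →
    x.1 ∈ torN G n → x.1 ∈ torN G N) ⟨1, one_pos, fun x hx => hx.elim⟩ ?_ ?_
  · obtain ⟨N, hN, h⟩ := key
    exact ⟨N, hN, fun x hx => h ⟨x, hx⟩ trivial⟩
  · rintro A B ⟨N, hN, hA⟩ ⟨M, hM, hB⟩
    refine ⟨N * M, Nat.mul_pos hN hM, fun x hx n hn hxn => ?_⟩
    rcases hx with hx | hx
    · exact pow_mem_of_dvd (dvd_mul_right N M) (hA x hx n hn hxn)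
    · exact pow_mem_of_dvd (dvd_mul_left M N) (hB x hx n hn hxn)
  · intro x
    obtain ⟨U, hxU, hU⟩ := exists_open_torN x.1
    by_cases hx : ∃ n : ℕ, 0 < n ∧ x.1 ∈ torN G n
    · obtain ⟨n, hn, hxn⟩ := hx
      obtain ⟨O, hO⟩ := hU n
      refine ⟨Subtype.val ⁻¹' ((U : Set G.left) ∩ O), (U.isOpen.inter O.isOpen).preimage continuous_subtype_val,
        ⟨hxU, (hO _ hxU specializes_rfl).1 hxn⟩, n, hn, fun y hy m _ _ => ?_⟩
      exact (hO _ hy.1.1 ((specializes_iff_mem_closure.2 hy.2).map continuous_subtype_val)).2 hy.1.2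
    · refine ⟨Subtype.val ⁻¹' (U : Set G.left), U.isOpen.preimage continuous_subtype_val, hxU, 1, one_pos,
        fun y hy m hm hym => (hx ⟨m, hm, ?_⟩).elim⟩
      obtain ⟨O, hO⟩ := hU m
      have hs : x.1 ⤳ y.1 := (specializes_iff_mem_closure.2 hy.2).map continuous_subtype_val
      exact (hO _ hxU specializes_rfl).2 (hs.mem_open O.isOpen ((hO _ hy.1 hs).1 hym))

/-- Points with neutral `n`-th power form a locally constructible set. -/
theorem isConstructible_torN (W : G.left.Opens) (hW : IsCompact (W : Set G.left)) (n : ℕ) :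
    IsConstructible (Subtype.val ⁻¹' torN G n : Set ↥(W : Scheme.{u})) := by
  haveI := noetherianSpace_opens W hW
  have key := induction_opens W hW
    (p := fun A => IsConstructible (A ∩ Subtype.val ⁻¹' torN G n : Set ↥(W : Scheme.{u})))
    (by rw [Set.empty_inter]; exact IsConstructible.empty)
    (fun A B hA hB => by rw [Set.union_inter_distrib_right]; exact hA.union hB) ?_
  · rwa [Set.univ_inter] at key
  intro x
  obtain ⟨U, hxU, hU⟩ := exists_open_torN x.1
  obtain ⟨O, hO⟩ := hU n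
  refine ⟨Subtype.val ⁻¹' (U : Set G.left), U.isOpen.preimage continuous_subtype_val, hxU, ?_⟩
  have : Subtype.val ⁻¹' (U : Set G.left) ∩ closure {x} ∩ Subtype.val ⁻¹' torN G n =
      Subtype.val ⁻¹' ((U : Set G.left) ∩ O) ∩ closure {x} := by
    ext y
    constructor
    · rintro ⟨⟨h1, h2⟩, h3⟩
      exact ⟨⟨h1, (hO _ h1 ((specializes_iff_mem_closure.2 h2).map continuous_subtype_val)).1 h3⟩, h2⟩
    · rintro ⟨⟨h1, h3⟩, h2⟩
      exact ⟨⟨h1, h2⟩, (hO _ h1 ((specializes_iff_mem_closure.2 h2).map continuous_subtype_val)).2 h3⟩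
  refine this ▸ ?_
  have ho : IsOpen (W.ι.base ⁻¹' ((U : Set G.left) ∩ O)) := (U.isOpen.inter O.isOpen).preimage W.ι.continuous
  exact (H8Top.isConstructible_of_isOpen (X := ↥(W : Scheme.{u})) ho).inter
    (H8Top.isConstructible_of_isClosed (X := ↥(W : Scheme.{u})) isClosed_closure)

theorem exists_compact_opens (x : G.left) : ∃ W : G.left.Opens, IsCompact (W : Set G.left) ∧ x ∈ W := by
  obtain ⟨W, hW, hxW, -⟩ := exists_isAffineOpen_mem_and_subset (U := ⊤) (x := x) trivial
  exact ⟨W, hW.isCompact, hxW⟩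

theorem isLocallyConstructible_torN (n : ℕ) : IsLocallyConstructible (torN G n) := fun x => by
  obtain ⟨W, hW, hxW⟩ := exists_compact_opens x
  exact ⟨W, W.isOpen.mem_nhds hxW, W.isOpen, isConstructible_torN W hW n⟩

/-- The torsion locus is open. -/
theorem isOpen_torsion : IsOpen {x : G.left | ∃ n : ℕ, 0 < n ∧ x ∈ torN G n} := by
  refine isOpen_iff_mem_nhds.2 fun x hx => ?_
  obtain ⟨W, hW, hxW⟩ := exists_compact_opens x
  haveI := noetherianSpace_opens W hW
  obtain ⟨N, hN, hb⟩ := exists_bound W hW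
  have hE : (Subtype.val ⁻¹' {y : G.left | ∃ n : ℕ, 0 < n ∧ y ∈ torN G n} : Set ↥(W : Scheme.{u})) =
      Subtype.val ⁻¹' torN G N := by
    ext y
    exact ⟨fun ⟨n, hn, hy⟩ => hb _ y.2 n hn hy, fun hy => ⟨N, hN, hy⟩⟩
  have ho : IsOpen (Subtype.val ⁻¹' {y : G.left | ∃ n : ℕ, 0 < n ∧ y ∈ torN G n} : Set ↥(W : Scheme.{u})) := by
    refine H8Top.isOpen_of_isConstructible_of_stableUnderGeneralization ?_ ?_
    · rw [hE]; exact isConstructible_torN W hW N
    · rintro y z hzy ⟨n, hn, hy⟩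
      exact torsion_of_specializes (hzy.map continuous_subtype_val) hn hy
  exact (W.isOpen.isOpenEmbedding_subtypeVal.isOpenMap _ ho).mem_nhds ⟨⟨x, hxW⟩, hx, rfl⟩ |>
    fun h => Filter.mem_of_superset h (by rintro _ ⟨y, hy, rfl⟩; exact hy)

omit [IsLocallyNoetherian S] [LocallyOfFiniteType G.hom] in
/-- A set is closed if it is closed on each quasi-compact open. -/
theorem isClosed_of_opens {E : Set G.left}
    (h : ∀ W : G.left.Opens, IsCompact (W : Set G.left) → ∃ K : Set G.left, IsClosed K ∧ ∀ x ∈ W, (x ∈ E ↔ x ∈ K)) :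
    IsClosed E := by
  refine isOpen_compl_iff.1 (isOpen_iff_mem_nhds.2 fun x hx => ?_)
  obtain ⟨W, hW, hxW, -⟩ := exists_isAffineOpen_mem_and_subset (U := ⊤) (x := x) trivial
  obtain ⟨K, hK, hEK⟩ := h W hW.isCompact
  exact Filter.mem_of_superset ((W.isOpen.sdiff hK).mem_nhds ⟨hxW, fun hxK => hx ((hEK x hxW).2 hxK)⟩)
    fun y hy hyE => hy.2 ((hEK y hy.1).1 hyE)

omit [IsLocallyNoetherian S] [LocallyOfFiniteType G.hom] in
theorem isClosed_torN (h0 : IsClosed (SGA3x.neutralSet G)) (n : ℕ) : IsClosed (torN G n) :=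
  h0.preimage ((𝟙 G : G ⟶ G) ^ n).left.continuous

/-- If the neutral components form a closed set, so does the torsion locus. -/
theorem isClosed_torsion (h0 : IsClosed (SGA3x.neutralSet G)) :
    IsClosed {x : G.left | ∃ n : ℕ, 0 < n ∧ x ∈ torN G n} :=
  isClosed_of_opens fun W hW => by
    obtain ⟨N, hN, hb⟩ := exists_bound W hW
    exact ⟨torN G N, isClosed_torN h0 N, fun x hx =>
      ⟨fun ⟨n, hn, hxn⟩ => hb x hx n hn hxn, fun h => ⟨N, hN, h⟩⟩⟩

/-- The prime-to-`p` torsion locus. -/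
theorem isClosed_torsion_coprime (h0 : IsClosed (SGA3x.neutralSet G)) (p : ℕ) (hp : p = 1 ∨ p.Prime) :
    IsClosed {x : G.left | ∃ n : ℕ, 0 < n ∧ Nat.Coprime n p ∧ x ∈ torN G n} := by
  refine isClosed_of_opens fun W hW => ?_
  obtain ⟨N, hN, hb⟩ := exists_bound W hW
  rcases hp with rfl | hp
  · exact ⟨torN G N, isClosed_torN h0 N, fun x hx =>
      ⟨fun ⟨n, hn, _, hxn⟩ => hb x hx n hn hxn, fun h => ⟨N, hN, Nat.coprime_one_right N, h⟩⟩⟩
  obtain ⟨a, N', hN', rfl⟩ := Nat.exists_eq_pow_mul_and_not_dvd hN.ne' p hp.ne_one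
  have hco : Nat.Coprime N' p := (Nat.Coprime.symm ((Nat.Prime.coprime_iff_not_dvd hp).2 hN'))
  have hN'0 : 0 < N' := Nat.pos_of_ne_zero fun h => by simp [h] at hN'
  refine ⟨torN G N', isClosed_torN h0 N', fun x hx => ⟨fun ⟨n, hn, hnp, hxn⟩ => ?_, fun h => ⟨N', hN'0, hco, h⟩⟩⟩
  have h1 := pow_gcd_mem hxn (hb x hx n hn hxn)
  refine pow_mem_of_dvd ?_ h1
  exact (Nat.Coprime.dvd_of_dvd_mul_left
    (Nat.Coprime.pow_right a (Nat.Coprime.coprime_dvd_left (Nat.gcd_dvd_left n (p ^ a * N')) hnp))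
    (Nat.gcd_dvd_right n (p ^ a * N')))

omit [IsLocallyNoetherian S] in
/-- The locus of the base of residue characteristic a given prime is closed. -/
theorem isClosed_expChar (q : ℕ) (hq : q.Prime) :
    IsClosed {s : S | ringExpChar (S.residueField s) = q} := by
  have : {s : S | ringExpChar (S.residueField s) = q} = (S.basicOpen (U := ⊤) (q : Γ(S, ⊤)) : Set S)ᶜ := by
    ext s
    rw [Set.mem_compl_iff, SetLike.mem_coe,
      ← Scheme.evaluation_ne_zero_iff_mem_basicOpen (X := S) s (U := ⊤) trivial, not_not, map_natCast]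
    show ringExpChar (S.residueField s) = q ↔ ((q : ℕ) : S.residueField s) = 0
    constructor
    · intro h
      have : ringChar (S.residueField s) = q := by
        rcases (max_choice (ringChar (S.residueField s)) 1) with h' | h'
        · exact h'.symm.trans h
        · exact absurd (h'.symm.trans h) hq.ne_one.symm
      rw [← this]
      exact CharP.cast_eq_zero (S.residueField s) (ringChar (S.residueField s))
    · intro h
      have : ringChar (S.residueField s) = q :=
        (Nat.prime_dvd_prime_iff_eq ((CharP.char_is_prime_or_zero (S.residueField s) (ringChar (S.residueField s))).resolve_right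
          (fun h0 => by
            haveI := (ringChar.eq_iff).1 h0
            haveI := CharP.charP_to_charZero (S.residueField s)
            exact hq.ne_zero (by exact_mod_cast h))) hq).1 (ringChar.dvd h)
      show max (ringChar (S.residueField s)) 1 = q
      rw [this]; exact max_eq_left hq.one_le
  rw [this]
  exact (S.basicOpen (U := ⊤) (q : Γ(S, ⊤))).isOpen.isClosed_compl

end Groth.Agent.H8Grp
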